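import Groth.Agent.StkComp.Sites

/-!
A category with a faithful map to a stack whose base changes to slices are stacks is a stack.
-/

set_option autoImplicit false
set_option backward.isDefEq.respectTransparency false
set_option backward.isDefEq.respectTransparency.types false
set_option linter.style.haveILetI false
universe v₃ u₃ v u

noncomputable section

namespace Groth.Agent.StkComp

open CategoryTheory CategoryTheory.Limits FibCat Groth.Agent.FibCatRep Groth.Agent.StkBasic

variable {C : Type u} [Category.{v} C] {𝒮 𝒯 : BasedCategory.{v, max u v} C} (F : 𝒮 ⥤ᵇ 𝒯)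

/-- The fibred replacement of a functor over `C`. -/
abbrev repl : BasedCategory.{v, max u v} 𝒯.obj :=
  BasedCategory.ofFunctor (fpFst (BasedFunctor.id 𝒯) F).toFunctor

lemma isEquivOver_repl_snd : IsEquivOver (fpSnd (BasedFunctor.id 𝒯) F) := by
  let Θ := fpSnd (BasedFunctor.id 𝒯) F
  haveI : Θ.toFunctor.Faithful := ⟨fun {o o'} m m' h => by
    have h₂ : m.hom.snd = m'.hom.snd := h
    refine ObjectProperty.hom_ext _ (CategoricalPullback.hom_ext ?_ h₂)
    have w : m.hom.fst ≫ o'.obj.iso.hom = o.obj.iso.hom ≫ F.map m.hom.snd := m.hom.w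
    have w' : m'.hom.fst ≫ o'.obj.iso.hom = o.obj.iso.hom ≫ F.map m'.hom.snd := m'.hom.w
    rw [← cancel_mono o'.obj.iso.hom, w, w', h₂]⟩
  haveI : Θ.toFunctor.Full := ⟨fun {o o'} g => by
    let i : o.obj.fst ≅ F.obj o.obj.snd := o.obj.iso
    let i' : o'.obj.fst ≅ F.obj o'.obj.snd := o'.obj.iso
    let g' : o.obj.snd ⟶ o'.obj.snd := g
    have hw : (i.hom ≫ F.map g' ≫ i'.inv) ≫ i'.hom = i.hom ≫ F.map g' := by simp
    exact ⟨ObjectProperty.homMk ⟨i.hom ≫ F.map g' ≫ i'.inv, g', hw⟩, rfl⟩⟩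
  refine isEquivOver_of_fullyFaithful Θ fun η => ?_
  exact ⟨⟨⟨F.obj η, η, Iso.refl _⟩, fpProp_of_map (BasedFunctor.id 𝒯) F _ rfl (𝒯.p.map_id _)⟩, Iso.refl _,
    rfl, 𝒮.p.map_id _⟩

lemma isFibGrpd_repl (h𝒮 : IsFibGrpd 𝒮.p) (h𝒯 : IsFibGrpd 𝒯.p) : IsFibGrpd (repl F).p := by
  refine isFibGrpd_mk (fun {o y} f => ?_) (fun {o'' o' o} φ ψ g hg => ?_)
  · let f' : y ⟶ o.obj.fst := f
    obtain ⟨x, φ, hx, hφ⟩ := exists_lift h𝒮 (x := o.obj.snd) (𝒯.p.map f' ≫ eqToHom (fp_obj_eq o).symm)
    obtain ⟨q, hq⟩ := map_iso_hom o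
    change 𝒯.p.map o.obj.iso.hom = eqToHom _ at hq
    have hxy : 𝒯.p.obj y = 𝒯.p.obj (F.obj x) := hx.symm.trans (F.w_obj x).symm
    obtain ⟨χ, ⟨hχ, hc⟩, -⟩ := existsUnique_cart h𝒯 (F.map φ) (f' ≫ o.obj.iso.hom) (eqToHom hxy)
      (by rw [Functor.map_comp, map_map, hφ, hq]; simp)
    haveI : IsIso (𝒯.p.map χ) := by rw [hχ]; infer_instance
    haveI := isIso_of_map h𝒯 χ
    exact ⟨⟨⟨y, x, asIso χ⟩, fpProp_of_map (BasedFunctor.id 𝒯) F _ hxy hχ⟩,
      ObjectProperty.homMk ⟨f', φ, hc.symm⟩, rfl, (Category.id_comp _).symm⟩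
  · let g' : o''.obj.fst ⟶ o'.obj.fst := g
    have hg' : g' ≫ φ.hom.fst = ψ.hom.fst := hg
    obtain ⟨χ, ⟨hχ, hc⟩, hu⟩ :=
      existsUnique_cart (isFibGrpd_fp h𝒯 h𝒮 h𝒯 (BasedFunctor.id 𝒯) F) φ ψ (𝒯.p.map g')
        (by show 𝒯.p.map g' ≫ 𝒯.p.map φ.hom.fst = 𝒯.p.map ψ.hom.fst; rw [← Functor.map_comp, hg'])
    refine ⟨χ, ⟨cancel h𝒯 φ.hom.fst hχ ?_, hc⟩, fun χ' hχ' => hu χ' ⟨congrArg 𝒯.p.map hχ'.1, hχ'.2⟩⟩
    show χ.hom.fst ≫ φ.hom.fst = g' ≫ φ.hom.fst
    rw [hg', ← hc]
    rfl

variable {U : C} (x : overCat U ⥤ᵇ 𝒯)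

/-- The base change to the slice, over the slice. -/
abbrev baseFib : BasedCategory.{v, max u v} (Over U) :=
  BasedCategory.ofFunctor ((fpFst x F).toFunctor : (fp x F).obj ⥤ Over U)

/-- The base change maps to the replacement. -/
def toRepl : fp x F ⥤ᵇ fp (BasedFunctor.id 𝒯) F :=
  fpLift (BasedFunctor.comp (fpFst x F) x) (fpSnd x F) (fpIso x F)

variable (A : BasedCategory.{v, max u v} (Over U))

/-- A category over the slice as one over `𝒯`. -/
abbrev overT : BasedCategory.{v, max u v} 𝒯.obj := BasedCategory.ofFunctor (A.p ⋙ x.toFunctor)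

/-- Functors into the base change as functors into the replacement. -/
def toReplFunctor : (A ⥤ᵇ baseFib F x) ⥤ (overT x A ⥤ᵇ repl F) where
  obj a :=
    { toFunctor := a.toFunctor ⋙ (toRepl F x).toFunctor
      w := congrArg (fun G => G ⋙ x.toFunctor) a.w }
  map {a a'} γ :=
    { app := fun z => (toRepl F x).map (γ.toNatTrans.app z)
      naturality := fun z z' m => by
        show (toRepl F x).map (a.map m) ≫ (toRepl F x).map (γ.toNatTrans.app z') =
          (toRepl F x).map (γ.toNatTrans.app z) ≫ (toRepl F x).map (a'.map m)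
        rw [← Functor.map_comp, ← Functor.map_comp, γ.toNatTrans.naturality]
      isHomLift' := fun z => by
        have h : (γ.toNatTrans.app z).hom.fst = eqToHom ((a.w_obj z).trans (a'.w_obj z).symm) := map_app γ z
        refine IsHomLift.of_fac' (repl F).p _ _ (congrArg x.obj (a.w_obj z)) (congrArg x.obj (a'.w_obj z)) ?_
        show x.map (γ.toNatTrans.app z).hom.fst = _
        rw [h, eqToHom_map]
        simp }
  map_id a := by
    apply BasedNatTrans.homCategory.ext
    ext z : 2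
    exact (toRepl F x).toFunctor.map_id _
  map_comp γ γ' := by
    apply BasedNatTrans.homCategory.ext
    ext z : 2
    exact (toRepl F x).toFunctor.map_comp _ _

lemma isEquivalence_toReplFunctor : (toReplFunctor F x A).IsEquivalence := by
  let Φ := toReplFunctor F x A
  haveI : Φ.Faithful := ⟨fun {a a'} γ γ' h => by
    apply BasedNatTrans.homCategory.ext
    ext z : 2
    refine ObjectProperty.hom_ext _ (CategoricalPullback.hom_ext ((map_app γ z).trans (map_app γ' z).symm) ?_)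
    exact congrArg (fun t => (t.toNatTrans.app z).hom.snd) h⟩
  haveI : Φ.Full := ⟨fun {a a'} g => by
    have hg : ∀ z, (g.toNatTrans.app z).hom.fst =
        x.map (eqToHom ((a.w_obj z).trans (a'.w_obj z).symm)) := fun z => by
      have h : (g.toNatTrans.app z).hom.fst = eqToHom _ := map_app g z
      rw [h, eqToHom_map]
    let η : ∀ z, a.obj z ⟶ a'.obj z := fun z => ObjectProperty.homMk
      ⟨eqToHom ((a.w_obj z).trans (a'.w_obj z).symm), (g.toNatTrans.app z).hom.snd, by
        show x.map _ ≫ _ = _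
        rw [← hg]
        exact (g.toNatTrans.app z).hom.w⟩
    refine ⟨{ app := η
              naturality := fun z z' m => ?_
              isHomLift' := fun z => IsHomLift.of_fac' (baseFib F x).p _ _ (a.w_obj z) (a'.w_obj z)
                (show eqToHom ((a.w_obj z).trans (a'.w_obj z).symm) = _ by simp) }, ?_⟩
    · refine ObjectProperty.hom_ext _ (CategoricalPullback.hom_ext ?_ ?_)
      · have h₁ : (a.map m).hom.fst = eqToHom (a.w_obj z) ≫ A.p.map m ≫ eqToHom (a.w_obj z').symm := map_map a m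
        have h₂ : (a'.map m).hom.fst = eqToHom (a'.w_obj z) ≫ A.p.map m ≫ eqToHom (a'.w_obj z').symm := map_map a' m
        show (a.map m).hom.fst ≫ eqToHom ((a.w_obj z').trans (a'.w_obj z').symm) =
          eqToHom ((a.w_obj z).trans (a'.w_obj z).symm) ≫ (a'.map m).hom.fst
        rw [h₁, h₂]
        simp
      · exact congrArg (fun t => t.hom.snd) (g.toNatTrans.naturality m)
    · apply BasedNatTrans.homCategory.ext
      ext z : 2
      exact ObjectProperty.hom_ext _ (CategoricalPullback.hom_ext (hg z).symm rfl)⟩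
  haveI : Φ.EssSurj := ⟨fun b => by
    have hb : ∀ z, (b.obj z).obj.fst = x.obj (A.p.obj z) := fun z => b.w_obj z
    let j : ∀ z, x.obj (A.p.obj z) ≅ F.obj (b.obj z).obj.snd := fun z =>
      eqToIso (hb z).symm ≪≫ (b.obj z).obj.iso
    have hj : ∀ z, ∃ h, 𝒯.p.map (j z).hom = eqToHom h := fun z => by
      obtain ⟨q, hq⟩ := map_iso_hom (b.obj z)
      change 𝒯.p.map (b.obj z).obj.iso.hom = eqToHom _ at hq
      refine ⟨(congrArg 𝒯.p.obj (hb z).symm).trans q, ?_⟩
      simp [j, eqToHom_map, hq]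
    choose h hh using hj
    let o : ∀ z, (fp x F).obj := fun z => ⟨⟨A.p.obj z, (b.obj z).obj.snd, j z⟩, fpProp_of_map x F _ (h z) (hh z)⟩
    have hm : ∀ {z z' : A.obj} (m : z ⟶ z'),
        x.map (A.p.map m) ≫ (j z').hom = (j z).hom ≫ F.map (b.map m).hom.snd := fun {z z'} m => by
      have h₁ : (b.map m).hom.fst = eqToHom (hb z) ≫ x.map (A.p.map m) ≫ eqToHom (hb z').symm := map_map b m
      have w : (b.map m).hom.fst ≫ (b.obj z').obj.iso.hom = (b.obj z).obj.iso.hom ≫ F.map (b.map m).hom.snd :=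
        (b.map m).hom.w
      rw [h₁] at w
      simp only [j, Iso.trans_hom, eqToIso.hom, Category.assoc] at w ⊢
      rw [← w]
      simp
    let a : A ⥤ᵇ baseFib F x :=
      { toFunctor :=
          { obj := o
            map := fun {z z'} m => ObjectProperty.homMk ⟨A.p.map m, (b.map m).hom.snd, hm m⟩
            map_id := fun z => ObjectProperty.hom_ext _ (CategoricalPullback.hom_ext (A.p.map_id z)
              (congrArg (fun t => t.hom.snd) (b.toFunctor.map_id z)))
            map_comp := fun m m' => ObjectProperty.hom_ext _ (CategoricalPullback.hom_ext (A.p.map_comp m m')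
              (congrArg (fun t => t.hom.snd) (b.toFunctor.map_comp m m'))) }
        w := rfl }
    let c : ∀ z, (Φ.obj a).obj z ≅ b.obj z := fun z =>
      ObjectProperty.isoMk _ (CategoricalPullback.mkIso (eqToIso (hb z).symm) (Iso.refl _) (by
        show eqToHom (hb z).symm ≫ (b.obj z).obj.iso.hom = (j z).hom ≫ F.map (𝟙 _)
        rw [CategoryTheory.Functor.map_id]
        exact (Category.comp_id _).symm))
    refine ⟨a, ⟨BasedNatIso.mkNatIso (NatIso.ofComponents c (fun {z z'} m =>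
      ObjectProperty.hom_ext _ (CategoricalPullback.hom_ext ?_ ?_))) ?_⟩⟩
    · have h₁ : (b.map m).hom.fst = eqToHom (hb z) ≫ x.map (A.p.map m) ≫ eqToHom (hb z').symm := map_map b m
      show x.map (A.p.map m) ≫ eqToHom (hb z').symm = eqToHom (hb z).symm ≫ (b.map m).hom.fst
      rw [h₁]
      simp
    · show (b.map m).hom.snd ≫ 𝟙 _ = 𝟙 _ ≫ (b.map m).hom.snd
      simp
    · intro z
      exact IsHomLift.of_fac' (repl F).p _ _ rfl (hb z)
        (show eqToHom (hb z).symm = _ by simp)⟩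
  exact { }

theorem isStack_of_faithful (J : GrothendieckTopology C) (h𝒮 : IsFibGrpd 𝒮.p) (h𝒯 : Stk.IsStack J 𝒯)
    (h3 : ∀ (U : C) (y : overCat U ⥤ᵇ 𝒯), Stk.IsStack (J.over U) (baseFib F y)) : Stk.IsStack J 𝒮 := by
  have hT : IsFibGrpd (repl F).p := isFibGrpd_repl F h𝒮 h𝒯.1
  refine StkBasic.isStack_of_equiv (isEquivOver_repl_snd F) J
    ⟨isFibGrpd_fp h𝒯.1 h𝒮 h𝒯.1 (BasedFunctor.id 𝒯) F, fun U R hR => ?_⟩
  refine isEquivalence_restr_total (T := repl F) (Stk.sieveIncl R) hT h𝒯.1 (h𝒯.2 R hR) fun x => ?_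
  let t₀ : Over U := Over.mk (𝟙 U)
  let R' : Sieve t₀ := (Sieve.overEquiv t₀).symm R
  have hR' : R' ∈ (J.over U) t₀ := by
    rw [GrothendieckTopology.mem_over_iff]
    show Sieve.overEquiv t₀ ((Sieve.overEquiv t₀).symm R) ∈ J _
    exact (congrArg (fun S => S ∈ J U) ((Sieve.overEquiv t₀).apply_symm_apply R)).mpr hR
  let A : BasedCategory.{v, max u v} (Over U) := overCat t₀
  let A' : BasedCategory.{v, max u v} (Over U) := Stk.sieveCat R'
  haveI h₁ : (Stk.restr (Stk.sieveIncl R') (baseFib F x)).IsEquivalence := (h3 U x).2 R' hR'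
  haveI := isEquivalence_toReplFunctor F x A
  haveI := isEquivalence_toReplFunctor F x A'
  let ι : overT x A' ⥤ᵇ overT x A := ⟨(Stk.sieveIncl R').toFunctor, rfl⟩
  have h₂ : (Stk.restr ι (repl F)).IsEquivalence := by
    let e : Stk.restr (Stk.sieveIncl R') (baseFib F x) ⋙ toReplFunctor F x A' ≅
        toReplFunctor F x A ⋙ Stk.restr ι (repl F) :=
      NatIso.ofComponents (fun a => Iso.refl _) (fun γ => (Category.comp_id _).trans (Category.id_comp _).symm)
    haveI : (toReplFunctor F x A ⋙ Stk.restr ι (repl F)).IsEquivalence := Functor.isEquivalence_of_iso e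
    exact Functor.isEquivalence_of_comp_left (toReplFunctor F x A) (Stk.restr ι (repl F))
  let s : overT x A ⥤ᵇ BasedCategory.ofFunctor x.toFunctor := ⟨Over.forget t₀, rfl⟩
  have hmem : ∀ w : A'.obj, R.arrows w.obj.left.hom := fun w => by
    have h : R'.arrows w.obj.hom := w.property
    have h' : R.arrows w.obj.hom.left := h
    have e : w.obj.hom.left = w.obj.left.hom := (Category.comp_id _).symm.trans (Over.w w.obj.hom)
    rw [← e]
    exact h'
  let s' : overT x A' ⥤ᵇ BasedCategory.ofFunctor (BasedFunctor.comp (Stk.sieveIncl R) x).toFunctor :=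
    ⟨ObjectProperty.lift _ (R'.arrows.diagram) hmem, rfl⟩
  haveI : s.toFunctor.Faithful := ⟨fun {a b} m m' h => Over.OverMorphism.ext h⟩
  haveI : s.toFunctor.Full := ⟨fun {a b} g => ⟨Over.homMk g (Over.OverMorphism.ext (by
    let g' : a.left ⟶ b.left := g
    have e₁ : a.hom.left = a.left.hom := (Category.comp_id _).symm.trans (Over.w a.hom)
    have e₂ : b.hom.left = b.left.hom := (Category.comp_id _).symm.trans (Over.w b.hom)
    show g'.left ≫ b.hom.left = a.hom.left
    rw [e₂, e₁]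
    exact Over.w g')), rfl⟩⟩
  haveI : s.toFunctor.EssSurj :=
    ⟨fun z => ⟨Over.mk (Over.homMk z.hom (Category.comp_id _) : z ⟶ t₀), ⟨Iso.refl _⟩⟩⟩
  haveI : s.toFunctor.IsEquivalence := { }
  haveI : s'.toFunctor.Faithful := ⟨fun {a b} m m' h => ObjectProperty.hom_ext _
    (s.toFunctor.map_injective (congrArg (fun k => k.hom) h))⟩
  haveI : s'.toFunctor.Full := ⟨fun {a b} g =>
    ⟨ObjectProperty.homMk (s.toFunctor.preimage g.hom), ObjectProperty.hom_ext _ (s.toFunctor.map_preimage g.hom)⟩⟩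
  haveI : s'.toFunctor.EssSurj := ⟨fun z => ⟨⟨Over.mk (Over.homMk z.obj.hom (Category.comp_id _) : z.obj ⟶ t₀),
    (show R.arrows z.obj.hom from z.property)⟩, ⟨Iso.refl _⟩⟩⟩
  haveI : s'.toFunctor.IsEquivalence := { }
  exact (isEquivalence_restr_of_square ι (onBase (Stk.sieveIncl R) x) s s' rfl
    (isEquivalence_restr_of_isEquivalence s hT) (isEquivalence_restr_of_isEquivalence s' hT)).2 h₂

end Groth.Agent.StkComp

end
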