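import Groth.Agent.StkComp.Base
import Groth.Agent.S12801
import Mathlib.CategoryTheory.Sites.InducedTopology
import Mathlib.CategoryTheory.Sites.CoverLifting
import Mathlib.CategoryTheory.Sites.Over

/-!
The topology inherited by a category fibred in groupoids, and stacks over it.
-/

set_option autoImplicit false
set_option backward.isDefEq.respectTransparency false
set_option backward.isDefEq.respectTransparency.types false
set_option linter.style.haveILetI false
universe v₃ u₃ v₂ u₂ v u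

noncomputable section

namespace Groth.Agent.StkComp

open CategoryTheory Opposite FibCat Groth.Agent.FibCatRep Groth.Agent.StkBasic

variable {C : Type u} [Category.{v} C]

section post

variable {𝒳 : Type u₂} [Category.{v₂} 𝒳] {p : 𝒳 ⥤ C} (hp : IsFibGrpd p) (x : 𝒳)
include hp

lemma isEquivalence_overPost : (Over.post p : Over x ⥤ Over (p.obj x)).IsEquivalence := by
  haveI : (Over.post p : Over x ⥤ Over (p.obj x)).Faithful := ⟨fun {a b} m m' h =>
    Over.OverMorphism.ext (cancel hp b.hom (congrArg (fun t => t.left) h)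
      ((Over.w m).trans (Over.w m').symm))⟩
  haveI : (Over.post p : Over x ⥤ Over (p.obj x)).Full := ⟨fun {a b} g => by
    obtain ⟨χ, ⟨hχ, hc⟩, -⟩ := existsUnique_cart hp b.hom a.hom g.left (Over.w g)
    exact ⟨Over.homMk χ hc, Over.OverMorphism.ext hχ⟩⟩
  haveI : (Over.post p : Over x ⥤ Over (p.obj x)).EssSurj := ⟨fun z => by
    obtain ⟨y, φ, hy, hφ⟩ := exists_lift hp (x := x) z.hom
    exact ⟨Over.mk φ, ⟨Over.isoMk (eqToIso hy) hφ.symm⟩⟩⟩
  exact { }

lemma mem_over_iff_pushforward (J : GrothendieckTopology C) (a : Over x) (S : Sieve a) :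
    S ∈ (p.restrictedTopology J).over x a ↔
      S.functorPushforward (Over.post p) ∈ (J.over (p.obj x)) ((Over.post p).obj a) := by
  rw [GrothendieckTopology.mem_over_iff, GrothendieckTopology.mem_over_iff, S12801.result p hp J]
  suffices h : (Sieve.overEquiv a S).functorPushforward p =
      Sieve.overEquiv ((Over.post p).obj a) (S.functorPushforward (Over.post p)) by
    rw [h]; rfl
  refine Sieve.ext fun {V} g => ?_
  constructor
  · rintro ⟨Z, h, k, hh, rfl⟩
    rw [Sieve.overEquiv_iff] at hh ⊢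
    refine ⟨Over.mk (h ≫ a.hom), Over.homMk h rfl, Over.homMk k ?_, hh, ?_⟩
    · show k ≫ p.map (h ≫ a.hom) = (k ≫ p.map h) ≫ p.map a.hom
      rw [Category.assoc, Functor.map_comp]
    · exact Over.OverMorphism.ext rfl
  · intro hg
    rw [Sieve.overEquiv_iff] at hg
    obtain ⟨b, h, k, hh, e⟩ := hg
    refine ⟨b.left, h.left, k.left, ?_, congrArg (fun t => t.left) e⟩
    rw [Sieve.overEquiv_iff]
    let i : Over.mk (h.left ≫ a.hom) ⟶ b := Over.homMk (𝟙 _) (by
      show 𝟙 _ ≫ b.hom = h.left ≫ a.hom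
      rw [Category.id_comp, Over.w h])
    convert S.downward_closed hh i using 1
    exact Over.OverMorphism.ext (Category.id_comp _).symm

end post

section maps

variable {𝒳 𝒴 : BasedCategory.{v₂, u₂} C} (J : GrothendieckTopology C) (h𝒳 : IsFibGrpd 𝒳.p)
  (h𝒴 : IsFibGrpd 𝒴.p) (F : 𝒳 ⥤ᵇ 𝒴)
include h𝒳 h𝒴

lemma pushforward_mem_congr {𝒵 : Type u₃} [Category.{v₃} 𝒵] {G G' : 𝒵 ⥤ C} (h : G = G') {x : 𝒵}
    (S : Sieve x) : S.functorPushforward G ∈ J (G.obj x) ↔ S.functorPushforward G' ∈ J (G'.obj x) := by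
  subst h
  rfl

theorem coverPreserving : CoverPreserving (𝒳.p.restrictedTopology J) (𝒴.p.restrictedTopology J) F.toFunctor := by
  refine ⟨fun {U} {S} hS => ?_⟩
  rw [S12801.result 𝒴.p h𝒴 J, ← Sieve.functorPushforward_comp]
  exact (pushforward_mem_congr J h𝒳 h𝒴 F.w S).2 ((S12801.result 𝒳.p h𝒳 J S).1 hS)

theorem isCocontinuous :
    F.toFunctor.IsCocontinuous (𝒳.p.restrictedTopology J) (𝒴.p.restrictedTopology J) := by
  refine ⟨fun {U} {S} hS => ?_⟩
  rw [S12801.result 𝒳.p h𝒳 J]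
  have h' := J.pullback_stable (eqToHom (F.w_obj U).symm) ((S12801.result 𝒴.p h𝒴 J S).1 hS)
  refine J.superset_covering ?_ h'
  rintro V g ⟨y, h, k, hh, e⟩
  obtain ⟨x', φ, hx, hφ⟩ := exists_lift h𝒳 (x := U) g
  obtain ⟨χ, ⟨-, hc⟩, -⟩ := existsUnique_cart h𝒴 h (F.map φ) (eqToHom ((F.w_obj x').trans hx) ≫ k) (by
    rw [Category.assoc, ← e, map_map, hφ]
    simp)
  refine ⟨x', φ, eqToHom hx.symm, ?_, by rw [hφ]; simp⟩
  show S.arrows (F.map φ)
  rw [← hc]
  exact S.downward_closed hh χ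

theorem isContinuous :
    F.toFunctor.IsContinuous (𝒳.p.restrictedTopology J) (𝒴.p.restrictedTopology J) := by
  refine Functor.isContinuous_of_coverPreserving ⟨?_⟩ (coverPreserving J h𝒳 h𝒴 F)
  intro ℱ Z T x hx Y₁ Y₂ X f₁ f₂ g₁ g₂ hg₁ hg₂ e
  obtain ⟨z, φ₁, hz, hφ₁⟩ := exists_lift h𝒳 (x := Y₁) (𝒴.p.map f₁ ≫ eqToHom (F.w_obj Y₁))
  obtain ⟨φ₂, ⟨hφ₂, hc₂⟩, -⟩ := existsUnique_cart h𝒳 g₂ (φ₁ ≫ g₁)
    (eqToHom hz ≫ 𝒴.p.map f₂ ≫ eqToHom (F.w_obj Y₂)) (by
      have e' := congrArg 𝒴.p.map e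
      rw [Functor.map_comp, Functor.map_comp, map_map, map_map] at e'
      simp only [← Category.assoc] at e'
      have e'' := (cancel_mono _).1 e'
      simp only [Category.assoc] at e'' ⊢
      rw [Functor.map_comp, hφ₁, ← e'']
      simp)
  obtain ⟨χ, ⟨hχ, hc⟩, -⟩ := existsUnique_cart h𝒴 (F.map φ₁) f₁
    (eqToHom ((hz.symm).trans (F.w_obj z).symm)) (by simp [map_map, hφ₁])
  have hc' : χ ≫ F.map φ₂ = f₂ := by
    refine cancel h𝒴 (F.map g₂) (by simp [map_map, hχ, hφ₂]) ?_
    rw [Category.assoc, ← Functor.map_comp, hc₂, Functor.map_comp, reassoc_of% hc, e]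
  have hxe : ℱ.obj.map (F.map φ₁).op (x g₁ hg₁) = ℱ.obj.map (F.map φ₂).op (x g₂ hg₂) :=
    hx φ₁ φ₂ hg₁ hg₂ hc₂.symm
  rw [← hc, ← hc', op_comp, op_comp, Functor.map_comp_apply, Functor.map_comp_apply, hxe]

end maps

section stackSec

variable (J : GrothendieckTopology C)

/-- The identity as a functor over `C` between two presentations of the same category. -/
def idOf {𝒳 : BasedCategory.{v₂, u₂} C} {p : 𝒳.obj ⥤ C} (h : p = 𝒳.p) : 𝒳 ⥤ᵇ BasedCategory.ofFunctor p where
  toFunctor := 𝟭 _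
  w := (Functor.id_comp _).trans h

lemma isEquivOver_idOf {𝒳 : BasedCategory.{v₂, u₂} C} {p : 𝒳.obj ⥤ C} (h : p = 𝒳.p) : IsEquivOver (idOf h) := by
  subst h
  exact ⟨BasedFunctor.id 𝒳, ⟨Iso.refl _⟩, ⟨Iso.refl _⟩⟩

lemma isFibGrpd_comp {B : BasedCategory.{v₂, u₂} C} (T : BasedCategory.{v₃, u₃} B.obj) (hB : IsFibGrpd B.p)
    (hT : IsFibGrpd T.p) : IsFibGrpd (total T).p := by
  refine isFibGrpd_mk (fun {x V} f => ?_) (fun {z y x} φ ψ g hg => ?_)
  · obtain ⟨b, ψ, hb, hψ⟩ := exists_lift hB (x := T.p.obj x) f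
    obtain ⟨y, φ, hy, hφ⟩ := exists_lift hT (x := x) ψ
    refine ⟨y, φ, (congrArg B.p.obj hy).trans hb, ?_⟩
    show B.p.map (T.p.map φ) = _
    rw [hφ, Functor.map_comp, eqToHom_map, hψ]
    simp
  · obtain ⟨g', ⟨hg', hc'⟩, hu'⟩ := existsUnique_cart hB (T.p.map φ) (T.p.map ψ) g hg
    obtain ⟨χ, ⟨hχ, hc⟩, hu⟩ := existsUnique_cart hT φ ψ g' hc'
    refine ⟨χ, ⟨(congrArg B.p.map hχ).trans hg', hc⟩, fun χ' h' => hu χ' ⟨?_, h'.2⟩⟩
    exact hu' _ ⟨h'.1, by rw [← Functor.map_comp, h'.2]⟩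

section comparison

variable {B : BasedCategory.{v, max u v} C} (hB : IsFibGrpd B.p) (t : B.obj)

/-- The slice of `B` over `t` as a category over `C`. -/
abbrev sliceC : BasedCategory.{v, max u v} C := BasedCategory.ofFunctor (Over.forget t ⋙ B.p)

/-- The inclusion of the slice. -/
def sliceIncl : sliceC t ⥤ᵇ B where
  toFunctor := Over.forget t
  w := rfl

/-- The sieve below. -/
abbrev imgSieve (S : Sieve t) : Sieve (B.p.obj t) := S.functorPushforward B.p

/-- The sieve category over `C`. -/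
abbrev sieveC (S : Sieve t) : BasedCategory.{v, max u v} C := BasedCategory.ofFunctor (S.arrows.diagram ⋙ B.p)

/-- The inclusion of the sieve in the slice. -/
def sieveInclC (S : Sieve t) : sieveC t S ⥤ᵇ sliceC t where
  toFunctor := ObjectProperty.ι _
  w := rfl

/-- The slice maps to the slice of the image. -/
def toSlice : sliceC t ⥤ᵇ overCat (B.p.obj t) where
  toFunctor := Over.post B.p
  w := rfl

/-- The sieve maps to the image sieve. -/
def toImg (S : Sieve t) : sieveC t S ⥤ᵇ Stk.sieveCat (imgSieve t S) where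
  toFunctor := ObjectProperty.lift _ (ObjectProperty.ι _ ⋙ Over.post B.p)
    (fun w => Sieve.image_mem_functorPushforward B.p S w.property)
  w := rfl

include hB in
lemma isEquivalence_toImg (S : Sieve t) : (toImg t S).toFunctor.IsEquivalence := by
  haveI := isEquivalence_overPost hB t
  haveI : (toImg t S).toFunctor.Faithful := ⟨fun {a b} m m' h => ObjectProperty.hom_ext _
    ((Over.post B.p).map_injective (congrArg (fun k => k.hom) h))⟩
  haveI : (toImg t S).toFunctor.Full := ⟨fun {a b} m => ⟨ObjectProperty.homMk ((Over.post B.p).preimage m.hom),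
    ObjectProperty.hom_ext _ ((Over.post B.p).map_preimage m.hom)⟩⟩
  haveI : (toImg t S).toFunctor.EssSurj := ⟨fun z => by
    obtain ⟨Z, h, k, hh, e⟩ := z.property
    obtain ⟨y, φ, hy, hφ⟩ := exists_lift hB (x := t) z.obj.hom
    obtain ⟨χ, ⟨-, hc⟩, -⟩ := existsUnique_cart hB h φ (eqToHom hy ≫ k) (by rw [Category.assoc, ← e, hφ])
    have hφS : S.arrows φ := by rw [← hc]; exact S.downward_closed hh χ
    exact ⟨⟨Over.mk φ, hφS⟩, ⟨ObjectProperty.isoMk _ (Over.isoMk (eqToIso hy) hφ.symm)⟩⟩⟩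
  exact { }

include hB in
lemma isEquivalence_restr_sieveInclC {𝒯 : BasedCategory.{v₂, u₂} C} (h𝒯 : IsFibGrpd 𝒯.p) (S : Sieve t)
    (h : Stk.IsStackFor (imgSieve t S) 𝒯) : (Stk.restr (sieveInclC t S) 𝒯).IsEquivalence := by
  haveI := isEquivalence_overPost hB t
  haveI : (toSlice t).toFunctor.IsEquivalence := inferInstanceAs (Over.post B.p).IsEquivalence
  haveI := isEquivalence_toImg hB t S
  exact (isEquivalence_restr_of_square (sieveInclC t S) (Stk.sieveIncl (imgSieve t S)) (toSlice t) (toImg t S)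
    rfl (isEquivalence_restr_of_isEquivalence _ h𝒯) (isEquivalence_restr_of_isEquivalence _ h𝒯)).1 h

end comparison

theorem isStack_restricted {B : BasedCategory.{v, max u v} C} (T : BasedCategory.{v₃, u₃} B.obj)
    (hBs : Stk.IsStack J B) (hCT : Stk.IsStack J (total T)) (hT : IsFibGrpd T.p) :
    Stk.IsStack (B.p.restrictedTopology J) T := by
  refine ⟨hT, fun t S hS => ?_⟩
  have hcov := (S12801.result B.p hBs.1 J S).1 hS
  have h₁ := isEquivalence_restr_sieveInclC hBs.1 t hCT.1 S (hCT.2 _ hcov)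
  haveI := isEquivalence_restr_sieveInclC hBs.1 t hBs.1 S (hBs.2 _ hcov)
  exact isEquivalence_restr_onBase (x := sliceIncl t) (sieveInclC t S) hT h₁

section composite

variable {B : BasedCategory.{v, max u v} C} (hB : IsFibGrpd B.p)

/-- The object over `U` of a functor out of the slice. -/
abbrev topPt {U : C} (x : overCat U ⥤ᵇ B) : B.obj := x.obj (Over.mk (𝟙 U))

/-- The comparison of the slice with the slice of `B`. -/
def toTop {U : C} (x : overCat U ⥤ᵇ B) : BasedCategory.ofFunctor x.toFunctor ⥤ᵇ overCat (topPt x) where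
  toFunctor :=
    { obj := fun z => Over.mk (x.map (Over.homMk z.hom (Category.comp_id _) : z ⟶ Over.mk (𝟙 U)))
      map := fun {z z'} n => Over.homMk (x.map n) (by
        show x.map n ≫ x.map _ = x.map _
        rw [← Functor.map_comp]
        congr 1
        exact Over.OverMorphism.ext (Over.w n))
      map_id := fun z => Over.OverMorphism.ext (x.toFunctor.map_id z)
      map_comp := fun n n' => Over.OverMorphism.ext (x.toFunctor.map_comp n n') }
  w := rfl

include hB in
lemma isEquivalence_toTop {U : C} (x : overCat U ⥤ᵇ B) : (toTop x).toFunctor.IsEquivalence := by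
  let mz : ∀ z : Over U, z ⟶ Over.mk (𝟙 U) := fun z => Over.homMk z.hom (Category.comp_id _)
  have hpm : ∀ {z z' : Over U} (n : z ⟶ z'),
      B.p.map (x.map n) = eqToHom (x.w_obj z) ≫ n.left ≫ eqToHom (x.w_obj z').symm := fun n => map_map x n
  have hmz : ∀ z : Over U, B.p.map (x.map (mz z)) =
      eqToHom (x.w_obj z) ≫ z.hom ≫ eqToHom (x.w_obj (Over.mk (𝟙 U))).symm := fun z => hpm (mz z)
  haveI : (toTop x).toFunctor.Faithful := ⟨fun {z z'} n n' h => by
    have e : B.p.map (x.map n) = B.p.map (x.map n') := congrArg (fun k => B.p.map k.left) h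
    rw [hpm, hpm, cancel_epi, cancel_mono] at e
    exact Over.OverMorphism.ext e⟩
  haveI : (toTop x).toFunctor.Full := ⟨fun {z z'} m => by
    let χ : x.obj z ⟶ x.obj z' := m.left
    have hw : χ ≫ x.map (mz z') = x.map (mz z) := Over.w m
    let l : z.left ⟶ z'.left := eqToHom (x.w_obj z).symm ≫ B.p.map χ ≫ eqToHom (x.w_obj z')
    have hl : l ≫ z'.hom = z.hom := by
      have e := congrArg B.p.map hw
      rw [Functor.map_comp, hmz, hmz] at e
      rw [← cancel_epi (eqToHom (x.w_obj z)), ← cancel_mono (eqToHom (x.w_obj (Over.mk (𝟙 U))).symm)]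
      simp only [Category.assoc]
      rw [← e]
      simp [l]
    refine ⟨Over.homMk l hl, Over.OverMorphism.ext ?_⟩
    show x.map (Over.homMk l hl) = χ
    refine cancel hB (x.map (mz z')) (by rw [hpm]; simp [l]) ?_
    rw [hw, ← Functor.map_comp]
    congr 1
    exact Over.OverMorphism.ext hl⟩
  haveI : (toTop x).toFunctor.EssSurj := ⟨fun n => by
    let z : Over U := Over.mk (B.p.map n.hom ≫ eqToHom (x.w_obj (Over.mk (𝟙 U))))
    obtain ⟨χ, ⟨hχ, hc⟩, -⟩ := existsUnique_cart hB n.hom (x.map (mz z)) (eqToHom (x.w_obj z)) (by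
      rw [hmz]; simp [z])
    haveI : IsIso (B.p.map χ) := by rw [hχ]; infer_instance
    haveI := isIso_of_map hB χ
    exact ⟨z, ⟨Over.isoMk (asIso χ) hc⟩⟩⟩
  exact { }

/-- The pulled back sieve on the point. -/
def topSieve {U : C} (R : Sieve U) (x : overCat U ⥤ᵇ B) : Sieve (topPt x) :=
  (R.pullback (eqToHom (x.w_obj (Over.mk (𝟙 U))))).functorPullback B.p

lemma mem_topSieve {U : C} (R : Sieve U) (x : overCat U ⥤ᵇ B) (z : Over U) (hz : R z.hom) :
    (topSieve R x).arrows ((toTop x).obj z).hom := by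
  show R.arrows (B.p.map (x.map _) ≫ eqToHom _)
  rw [map_map]
  show R.arrows ((eqToHom _ ≫ z.hom ≫ eqToHom _) ≫ eqToHom _)
  simp only [Category.assoc, eqToHom_trans, eqToHom_refl, Category.comp_id]
  exact R.downward_closed hz _

/-- The comparison of sieves. -/
def toTopSieve {U : C} (R : Sieve U) (x : overCat U ⥤ᵇ B) :
    BasedCategory.ofFunctor (BasedFunctor.comp (Stk.sieveIncl R) x).toFunctor ⥤ᵇ Stk.sieveCat (topSieve R x) where
  toFunctor := ObjectProperty.lift _ (ObjectProperty.ι _ ⋙ (toTop x).toFunctor)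
    (fun w => mem_topSieve R x w.obj w.property)
  w := rfl

include hB in
lemma isEquivalence_toTopSieve {U : C} (R : Sieve U) (x : overCat U ⥤ᵇ B) :
    (toTopSieve R x).toFunctor.IsEquivalence := by
  haveI := isEquivalence_toTop hB x
  let L := toTopSieve R x
  haveI : L.toFunctor.Faithful := ⟨fun {a b} m m' h => ObjectProperty.hom_ext _
    ((toTop x).toFunctor.map_injective (congrArg (fun k => k.hom) h))⟩
  haveI : L.toFunctor.Full := ⟨fun {a b} m => ⟨ObjectProperty.homMk ((toTop x).toFunctor.preimage m.hom),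
    ObjectProperty.hom_ext _ ((toTop x).toFunctor.map_preimage m.hom)⟩⟩
  haveI : L.toFunctor.EssSurj := ⟨fun n => by
    let z := (toTop x).toFunctor.objPreimage n.obj
    let i := (toTop x).toFunctor.objObjPreimageIso n.obj
    have hn : R.arrows (B.p.map n.obj.hom ≫ eqToHom (x.w_obj (Over.mk (𝟙 U)))) := n.property
    have hw : i.hom.left ≫ n.obj.hom = x.map (Over.homMk z.hom (Category.comp_id _) : z ⟶ Over.mk (𝟙 U)) :=
      Over.w i.hom
    have e := congrArg B.p.map hw
    rw [Functor.map_comp, map_map] at e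
    have hz : R.arrows z.hom := by
      have h := R.downward_closed hn (eqToHom (x.w_obj z).symm ≫ B.p.map i.hom.left)
      rw [Category.assoc, reassoc_of% e] at h
      simp at h
      exact h
    exact ⟨⟨z, hz⟩, ⟨ObjectProperty.isoMk _ i⟩⟩⟩
  exact { }

include hB in
lemma topSieve_mem {U : C} {R : Sieve U} (hR : R ∈ J U) (x : overCat U ⥤ᵇ B) :
    topSieve R x ∈ B.p.restrictedTopology J (topPt x) := by
  rw [S12801.result B.p hB J]
  refine J.superset_covering ?_ (J.pullback_stable (eqToHom (x.w_obj (Over.mk (𝟙 U)))) hR)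
  intro V g hg
  obtain ⟨y, φ, hy, hφ⟩ := exists_lift hB (x := topPt x) g
  refine ⟨y, φ, eqToHom hy.symm, ?_, by rw [hφ]; simp⟩
  show R.arrows (B.p.map φ ≫ _)
  rw [hφ, Category.assoc]
  exact R.downward_closed hg _

theorem isStack_total (T : BasedCategory.{v₃, u₃} B.obj) (hBs : Stk.IsStack J B)
    (hTs : Stk.IsStack (B.p.restrictedTopology J) T) : Stk.IsStack J (total T) := by
  refine ⟨isFibGrpd_comp T hBs.1 hTs.1, fun U R hR => ?_⟩
  refine isEquivalence_restr_total (Stk.sieveIncl R) hTs.1 hBs.1 (hBs.2 R hR) fun x => ?_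
  haveI := isEquivalence_toTop hBs.1 x
  haveI := isEquivalence_toTopSieve hBs.1 R x
  exact (isEquivalence_restr_of_square (onBase (Stk.sieveIncl R) x) (Stk.sieveIncl (topSieve R x))
    (toTop x) (toTopSieve R x) rfl (isEquivalence_restr_of_isEquivalence _ hTs.1)
    (isEquivalence_restr_of_isEquivalence _ hTs.1)).1 (hTs.2 _ (topSieve_mem J hBs.1 hR x))

end composite

theorem isStack_of_fibred {𝒳 𝒴 : BasedCategory.{v, max u v} C} (h𝒳 : Stk.IsStack J 𝒳) (h𝒴 : Stk.IsStack J 𝒴)
    (F : 𝒳 ⥤ᵇ 𝒴) (hF : IsFibGrpd F.toFunctor) :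
    Stk.IsStack (𝒴.p.restrictedTopology J) (BasedCategory.ofFunctor F.toFunctor) :=
  isStack_restricted J (BasedCategory.ofFunctor F.toFunctor) h𝒴
    (StkBasic.isStack_of_equiv (isEquivOver_idOf (𝒳 := 𝒳) (p := F.toFunctor ⋙ 𝒴.p) F.w) J h𝒳) hF

end stackSec

end Groth.Agent.StkComp

end
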