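import Groth.Agent.StkComp.Contract
import Mathlib.CategoryTheory.Sites.CoverPreserving
import Mathlib.CategoryTheory.Comma.Over.Basic
import Mathlib.CategoryTheory.Limits.Shapes.Pullback.Categorical.Basic
import Mathlib.CategoryTheory.Limits.Preserves.Shapes.Pullbacks

/-!
Pullback of a stack along a functor of base categories preserving pullbacks.
-/

set_option autoImplicit false
set_option backward.isDefEq.respectTransparency false
set_option backward.isDefEq.respectTransparency.types false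
set_option linter.style.haveILetI false
universe v₄ u₄ v₅ u₅ v₃ u₃ v₂ u₂ v u

noncomputable section

namespace Groth.Agent.StkComp

open CategoryTheory CategoryTheory.Limits FibCat Groth.Agent.FibCatRep Groth.Agent.StkBasic

variable {C : Type u} [Category.{v} C] {D : Type u₂} [Category.{v₂} D] (u : C ⥤ D)
  (𝒮 : BasedCategory.{v₃, u₃} D)

/-- The `2`-fibre product over the base. -/
abbrev pb : BasedCategory.{max v v₃, max u v₂ u₃} C :=
  BasedCategory.ofFunctor (CategoricalPullback.π₁ u 𝒮.p)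

lemma isFibGrpd_pb (h : IsFibGrpd 𝒮.p) : IsFibGrpd (pb u 𝒮).p := by
  apply isFibGrpd_mk
  · intro o V f
    let f' : V ⟶ o.fst := f
    obtain ⟨y, φ, hy, hφ⟩ := exists_lift h (x := o.snd) (u.map f' ≫ o.iso.hom)
    exact ⟨⟨V, y, eqToIso hy.symm⟩, ⟨f', φ, by simp [hφ]⟩, rfl, (Category.id_comp f).symm⟩
  · intro a y x φ ψ g hg
    let g' : a.fst ⟶ y.fst := g
    replace hg : g' ≫ φ.fst = ψ.fst := hg
    obtain ⟨χ, ⟨hχ, hc⟩, hu⟩ := existsUnique_cart h φ.snd ψ.snd (a.iso.inv ≫ u.map g' ≫ y.iso.hom) (by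
      rw [Category.assoc, Category.assoc, ← φ.w, ← Functor.map_comp_assoc, hg, ψ.w, Iso.inv_hom_id_assoc])
    refine ⟨⟨g', χ, by rw [hχ, Iso.hom_inv_id_assoc]⟩, ⟨rfl, CategoricalPullback.hom_ext hg hc⟩, fun k hk => ?_⟩
    have h1 : k.fst = g' := hk.1
    refine CategoricalPullback.hom_ext h1 (hu _ ⟨?_, congrArg (fun t => t.snd) hk.2⟩)
    have hw := k.w
    rw [h1] at hw
    rw [Iso.eq_inv_comp]
    exact hw.symm

/-- A category over `C` as a category over `D`. -/
abbrev pushBase (A : BasedCategory.{v₄, u₄} C) : BasedCategory.{v₄, u₄} D := BasedCategory.ofFunctor (A.p ⋙ u)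

variable {A : BasedCategory.{v₄, u₄} C} {A' : BasedCategory.{v₅, u₅} C}

/-- A functor over `C` as a functor over `D`. -/
def pushHom (j : A' ⥤ᵇ A) : pushBase u A' ⥤ᵇ pushBase u A where
  toFunctor := j.toFunctor
  w := by
    show j.toFunctor ⋙ A.p ⋙ u = A'.p ⋙ u
    rw [← Functor.assoc, j.w]

/-- The object part of the adjunction. -/
def toPbObj (a : pushBase u A ⥤ᵇ 𝒮) : A ⥤ᵇ pb u 𝒮 where
  toFunctor :=
    { obj := fun z => ⟨A.p.obj z, a.obj z, eqToIso (a.w_obj z).symm⟩
      map := fun {z z'} m => ⟨A.p.map m, a.map m, by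
        rw [map_map a m]
        simp
        rfl⟩
      map_id := fun z => CategoricalPullback.hom_ext (A.p.map_id z) (a.toFunctor.map_id z)
      map_comp := fun m m' => CategoricalPullback.hom_ext (A.p.map_comp m m') (a.toFunctor.map_comp m m') }
  w := rfl

variable (A) in
/-- Functors over `D` into `𝒮` as functors over `C` into the fibre product. -/
def toPb : (pushBase u A ⥤ᵇ 𝒮) ⥤ (A ⥤ᵇ pb u 𝒮) where
  obj := toPbObj u 𝒮
  map {a b} α :=
    { app := fun z => ⟨𝟙 _, α.toNatTrans.app z, by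
        have h : 𝒮.p.map (α.toNatTrans.app z) = _ := map_app α z
        show u.map (𝟙 (A.p.obj z)) ≫ eqToHom (b.w_obj z).symm = eqToHom (a.w_obj z).symm ≫ 𝒮.p.map (α.toNatTrans.app z)
        rw [h]
        simp⟩
      naturality := fun z z' m => CategoricalPullback.hom_ext
        (by show A.p.map m ≫ 𝟙 _ = 𝟙 _ ≫ A.p.map m; simp)
        (α.toNatTrans.naturality m)
      isHomLift' := fun z => IsHomLift.of_fac' (pb u 𝒮).p _ _ rfl rfl (by
        show 𝟙 (A.p.obj z) = _
        simp
        rfl) }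
  map_id a := by
    apply BasedNatTrans.homCategory.ext
    ext z
    exact CategoricalPullback.hom_ext rfl rfl
  map_comp α β := by
    apply BasedNatTrans.homCategory.ext
    ext z
    exact CategoricalPullback.hom_ext (Category.id_comp _).symm rfl

variable (A) in
lemma isEquivalence_toPb (h : IsFibGrpd 𝒮.p) : (toPb u 𝒮 A).IsEquivalence := by
  haveI : (toPb u 𝒮 A).Faithful := ⟨fun {a b} α β hh => by
    apply BasedNatTrans.homCategory.ext
    ext z
    exact congrArg (fun t => (t.toNatTrans.app z).snd) hh⟩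
  haveI : (toPb u 𝒮 A).Full := ⟨fun {a b} γ => by
    have hf : ∀ z, (γ.toNatTrans.app z).fst = 𝟙 (A.p.obj z) := fun z => by
      have e : (γ.toNatTrans.app z).fst = eqToHom _ := map_app γ z
      exact e.trans (eqToHom_refl _ _)
    have hs : ∀ z, 𝒮.p.map (γ.toNatTrans.app z).snd = eqToHom ((a.w_obj z).trans (b.w_obj z).symm) := fun z => by
      have e : u.map (γ.toNatTrans.app z).fst ≫ eqToHom (b.w_obj z).symm =
          eqToHom (a.w_obj z).symm ≫ 𝒮.p.map (γ.toNatTrans.app z).snd := (γ.toNatTrans.app z).w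
      rw [hf z] at e
      replace e : eqToHom (b.w_obj z).symm = eqToHom (a.w_obj z).symm ≫ 𝒮.p.map (γ.toNatTrans.app z).snd :=
        ((congrArg (· ≫ eqToHom (b.w_obj z).symm) (u.map_id _)).trans (Category.id_comp _)).symm.trans e
      rw [(eqToHom_comp_iff _ _ _).1 e.symm, eqToHom_trans]
    refine ⟨{ app := fun z => (γ.toNatTrans.app z).snd
              naturality := fun z z' m => congrArg (fun t => t.snd) (γ.toNatTrans.naturality m)
              isHomLift' := fun z => IsHomLift.of_fac' 𝒮.p _ _ (a.w_obj z) (b.w_obj z)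
                ((hs z).trans (by simp)) }, ?_⟩
    apply BasedNatTrans.homCategory.ext
    ext z
    exact CategoricalPullback.hom_ext (hf z).symm rfl⟩
  haveI : (toPb u 𝒮 A).EssSurj := ⟨fun b => by
    let ι : ∀ z, u.obj (A.p.obj z) ≅ 𝒮.p.obj (b.obj z).snd := fun z =>
      eqToIso (congrArg u.obj (b.w_obj z)).symm ≪≫ (b.obj z).iso
    have hex : ∀ z, ∃ (y : 𝒮.obj) (φ : y ≅ (b.obj z).snd) (hy : 𝒮.p.obj y = u.obj (A.p.obj z)),
        𝒮.p.map φ.hom = eqToHom hy ≫ (ι z).hom := fun z => by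
      obtain ⟨y, φ, hy, hφ⟩ := exists_lift h (x := (b.obj z).snd) (ι z).hom
      haveI : IsIso (𝒮.p.map φ) := by rw [hφ]; infer_instance
      haveI := isIso_of_map h φ
      exact ⟨y, asIso φ, hy, hφ⟩
    choose y φ hy hφ using hex
    have hι : ∀ {z z' : A.obj} (m : z ⟶ z'),
        (ι z).hom ≫ 𝒮.p.map (b.map m).snd = u.map (A.p.map m) ≫ (ι z').hom := fun {z z'} m => by
      have e : (b.map m).fst = eqToHom (b.w_obj z) ≫ A.p.map m ≫ eqToHom (b.w_obj z').symm := map_map b m
      have w := (b.map m).w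
      rw [e, Functor.map_comp, Functor.map_comp, eqToHom_map, eqToHom_map, Category.assoc, Category.assoc] at w
      simp only [ι, Iso.trans_hom, eqToIso.hom, Category.assoc]
      rw [← w]
      simp
    let a : pushBase u A ⥤ᵇ 𝒮 :=
      { toFunctor :=
          { obj := y
            map := fun {z z'} m => (φ z).hom ≫ (b.map m).snd ≫ (φ z').inv
            map_id := fun z => by
              rw [show (b.map (𝟙 z)).snd = 𝟙 _ from congrArg (fun t => t.snd) (b.toFunctor.map_id z)]
              simp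
            map_comp := fun {z z' z''} m m' => by
              rw [show (b.map (m ≫ m')).snd = (b.map m).snd ≫ (b.map m').snd from
                congrArg (fun t => t.snd) (b.toFunctor.map_comp m m')]
              simp }
        w := CategoryTheory.Functor.ext hy (fun z z' m => by
          show 𝒮.p.map ((φ z).hom ≫ (b.map m).snd ≫ (φ z').inv) = _
          rw [← cancel_mono (𝒮.p.map (φ z').hom), Functor.map_comp, Functor.map_comp, Category.assoc,
            Category.assoc, ← Functor.map_comp, Iso.inv_hom_id, CategoryTheory.Functor.map_id,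
            Category.comp_id, hφ, hφ, Category.assoc, hι m]
          simp
          rfl) }
    refine ⟨a, ⟨BasedNatIso.mkNatIso (NatIso.ofComponents
      (fun z => CategoricalPullback.mkIso (eqToIso (b.w_obj z).symm) (φ z) ?_) (fun {z z'} m => ?_))
      (fun z => IsHomLift.of_fac' (pb u 𝒮).p _ _ rfl (b.w_obj z) (by
        show eqToHom (b.w_obj z).symm = _
        simp))⟩⟩
    · show u.map (eqToHom (b.w_obj z).symm) ≫ (b.obj z).iso.hom =
        eqToHom (hy z).symm ≫ 𝒮.p.map (φ z).hom
      rw [hφ, eqToHom_map]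
      simp [ι]
    · refine CategoricalPullback.hom_ext ?_ ?_
      · show A.p.map m ≫ eqToHom (b.w_obj z').symm = eqToHom (b.w_obj z).symm ≫ (b.map m).fst
        have e : (b.map m).fst = eqToHom (b.w_obj z) ≫ A.p.map m ≫ eqToHom (b.w_obj z').symm := map_map b m
        rw [e]
        simp
      · show ((φ z).hom ≫ (b.map m).snd ≫ (φ z').inv) ≫ (φ z').hom = (φ z).hom ≫ (b.map m).snd
        simp⟩
  exact { }

/-- The adjunction is natural in the source. -/
def toPbRestr (j : A' ⥤ᵇ A) : toPb u 𝒮 A ⋙ Stk.restr j (pb u 𝒮) ≅ Stk.restr (pushHom u j) 𝒮 ⋙ toPb u 𝒮 A' :=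
  NatIso.ofComponents
    (fun a => BasedNatIso.mkNatIso (NatIso.ofComponents
      (fun z => CategoricalPullback.mkIso (eqToIso (j.w_obj z)) (Iso.refl (a.obj (j.obj z)))
        (by
          show u.map (eqToHom (j.w_obj z)) ≫ eqToHom ((pushHom u j).w_obj z ▸ a.w_obj (j.obj z)).symm =
            eqToHom (a.w_obj (j.obj z)).symm ≫ 𝒮.p.map (𝟙 (a.obj (j.obj z)))
          rw [eqToHom_map, CategoryTheory.Functor.map_id, Category.comp_id, eqToHom_trans]))
      (fun {z z'} m => CategoricalPullback.hom_ext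
        (by
          show A.p.map (j.map m) ≫ eqToHom (j.w_obj z') = eqToHom (j.w_obj z) ≫ A'.p.map m
          rw [map_map j m]
          simp)
        (by
          show a.map (j.map m) ≫ 𝟙 _ = 𝟙 _ ≫ a.map (j.map m)
          simp)))
      (fun z => IsHomLift.of_fac' (pb u 𝒮).p _ _ (j.w_obj z) rfl (by
        show eqToHom (j.w_obj z) = _
        simp)))
    (fun {a b} α => by
      apply BasedNatTrans.homCategory.ext
      ext z
      refine CategoricalPullback.hom_ext ?_ ?_
      · show 𝟙 (A.p.obj (j.obj z)) ≫ eqToHom (j.w_obj z) = eqToHom (j.w_obj z) ≫ 𝟙 (A'.p.obj z)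
        rw [Category.id_comp, Category.comp_id]
      · show α.toNatTrans.app (j.obj z) ≫ 𝟙 _ = 𝟙 _ ≫ α.toNatTrans.app (j.obj z)
        rw [Category.id_comp, Category.comp_id])

section site

variable [HasPullbacks C] [PreservesLimitsOfShape WalkingCospan u]

lemma exists_weak_product {U : C} {z : Over (u.obj U)} {a b : Over U} (f : z ⟶ (Over.post u).obj a)
    (g : z ⟶ (Over.post u).obj b) :
    ∃ (P : Over U) (p₁ : P ⟶ a) (p₂ : P ⟶ b) (h : z ⟶ (Over.post u).obj P),
      h ≫ (Over.post u).map p₁ = f ∧ h ≫ (Over.post u).map p₂ = g ∧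
      ∀ (Q : Over U) (q₁ : Q ⟶ a) (q₂ : Q ⟶ b) (k : z ⟶ (Over.post u).obj Q),
        k ≫ (Over.post u).map q₁ = f → k ≫ (Over.post u).map q₂ = g →
        ∃ l : Q ⟶ P, l ≫ p₁ = q₁ ∧ l ≫ p₂ = q₂ ∧ k ≫ (Over.post u).map l = h := by
  have hP := (IsPullback.of_hasPullback a.hom b.hom).map u
  have hfg : f.left ≫ u.map a.hom = g.left ≫ u.map b.hom := (Over.w f).trans (Over.w g).symm
  let P : Over U := Over.mk (pullback.fst a.hom b.hom ≫ a.hom)
  let p₁ : P ⟶ a := Over.homMk (pullback.fst a.hom b.hom) rfl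
  let p₂ : P ⟶ b := Over.homMk (pullback.snd a.hom b.hom) pullback.condition.symm
  let h : z ⟶ (Over.post u).obj P := Over.homMk (hP.lift f.left g.left hfg) (by
    show hP.lift f.left g.left hfg ≫ u.map (pullback.fst a.hom b.hom ≫ a.hom) = z.hom
    rw [Functor.map_comp, hP.lift_fst_assoc]
    exact Over.w f)
  refine ⟨P, p₁, p₂, h, Over.OverMorphism.ext (hP.lift_fst _ _ _), Over.OverMorphism.ext (hP.lift_snd _ _ _),
    fun Q q₁ q₂ k hk₁ hk₂ => ?_⟩
  refine ⟨Over.homMk (pullback.lift q₁.left q₂.left ((Over.w q₁).trans (Over.w q₂).symm)) ?_,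
    Over.OverMorphism.ext (pullback.lift_fst _ _ _), Over.OverMorphism.ext (pullback.lift_snd _ _ _),
    Over.OverMorphism.ext ?_⟩
  · show _ ≫ pullback.fst a.hom b.hom ≫ a.hom = Q.hom
    rw [pullback.lift_fst_assoc]
    exact Over.w q₁
  · show k.left ≫ u.map (pullback.lift q₁.left q₂.left _) = hP.lift f.left g.left hfg
    refine hP.hom_ext ?_ ?_
    · rw [Category.assoc, ← Functor.map_comp, pullback.lift_fst, hP.lift_fst]
      exact congrArg (fun t => t.left) hk₁
    · rw [Category.assoc, ← Functor.map_comp, pullback.lift_snd, hP.lift_snd]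
      exact congrArg (fun t => t.left) hk₂

variable {U : C}

/-- The slice comparison over `D`. -/
def sliceMap (U : C) : pushBase u (overCat U) ⥤ᵇ overCat (u.obj U) where
  toFunctor := Over.post u
  w := rfl

omit [HasPullbacks C] [PreservesLimitsOfShape WalkingCospan u] in
lemma pushforward_mem {R : Sieve U} (a : R.arrows.category) :
    R.functorPushforward u ((Over.post u).obj a.obj).hom :=
  Sieve.image_mem_functorPushforward u R a.property

/-- The sieve comparison over `D`. -/
def sieveMap (R : Sieve U) : pushBase u (Stk.sieveCat R) ⥤ᵇ Stk.sieveCat (R.functorPushforward u) where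
  toFunctor := ObjectProperty.lift _ (ObjectProperty.ι _ ⋙ Over.post u) (fun a => pushforward_mem u a)
  w := rfl

lemma isEquivalence_restr_sliceMap (h : IsFibGrpd 𝒮.p) (U : C) :
    (Stk.restr (sliceMap u U) 𝒮).IsEquivalence := by
  refine isEquivalence_restr_of_simply _ h (fun z V => ?_)
  haveI := isGroupoid_fiber h V
  have top : z ⟶ (Over.post u).obj (Over.mk (𝟙 U)) := Over.homMk (U := z) z.hom (by
    show z.hom ≫ u.map (𝟙 U) = z.hom
    exact (congrArg (z.hom ≫ ·) (u.map_id U)).trans (Category.comp_id _))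
  refine simply_of_weak_products ⟨StructuredArrow.mk (T := (sliceMap u U).toFunctor) (Y := Over.mk (𝟙 U)) top⟩
    (fun a b => ?_)
  obtain ⟨P, p₁, p₂, k, hk₁, hk₂, hu⟩ := exists_weak_product u a.hom b.hom
  refine ⟨StructuredArrow.mk (T := (sliceMap u U).toFunctor) (Y := P) k,
    StructuredArrow.homMk p₁ hk₁, StructuredArrow.homMk p₂ hk₂, fun Q q₁ q₂ => ?_⟩
  obtain ⟨l, hl₁, hl₂, hl₃⟩ := hu Q.right q₁.right q₂.right Q.hom (StructuredArrow.w q₁) (StructuredArrow.w q₂)
  exact ⟨StructuredArrow.homMk l hl₃, StructuredArrow.hom_ext _ _ hl₁, StructuredArrow.hom_ext _ _ hl₂⟩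

lemma isEquivalence_restr_sieveMap (h : IsFibGrpd 𝒮.p) (R : Sieve U) :
    (Stk.restr (sieveMap u R) 𝒮).IsEquivalence := by
  refine isEquivalence_restr_of_simply _ h (fun z V => ?_)
  haveI := isGroupoid_fiber h V
  obtain ⟨Z, r, d, hr, e⟩ := z.property
  have top : z ⟶ (sieveMap u R).obj ⟨Over.mk r, hr⟩ := ObjectProperty.homMk (Over.homMk d e.symm)
  refine simply_of_weak_products ⟨StructuredArrow.mk (T := (sieveMap u R).toFunctor) top⟩ (fun a b => ?_)
  obtain ⟨P, p₁, p₂, k, hk₁, hk₂, hu⟩ := exists_weak_product u a.hom.hom b.hom.hom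
  have hP : R P.hom := by
    rw [← Over.w p₁]
    exact R.downward_closed a.right.property p₁.left
  let P' : R.arrows.category := ⟨P, hP⟩
  refine ⟨StructuredArrow.mk (T := (sieveMap u R).toFunctor) (Y := P') (ObjectProperty.homMk k),
    StructuredArrow.homMk (ObjectProperty.homMk p₁) (ObjectProperty.hom_ext _ hk₁),
    StructuredArrow.homMk (ObjectProperty.homMk p₂) (ObjectProperty.hom_ext _ hk₂), fun Q q₁ q₂ => ?_⟩
  obtain ⟨l, hl₁, hl₂, hl₃⟩ := hu Q.right.obj q₁.right.hom q₂.right.hom Q.hom.hom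
    (congrArg (fun t => t.hom) (StructuredArrow.w q₁)) (congrArg (fun t => t.hom) (StructuredArrow.w q₂))
  exact ⟨StructuredArrow.homMk (ObjectProperty.homMk l) (ObjectProperty.hom_ext _ hl₃),
    StructuredArrow.hom_ext _ _ (ObjectProperty.hom_ext _ hl₁),
    StructuredArrow.hom_ext _ _ (ObjectProperty.hom_ext _ hl₂)⟩

theorem isStack_pb (J : GrothendieckTopology C) (K : GrothendieckTopology D) (hu : CoverPreserving J K u)
    (h𝒮 : Stk.IsStack K 𝒮) : Stk.IsStack J (pb u 𝒮) := by
  refine ⟨isFibGrpd_pb u 𝒮 h𝒮.1, fun U R hR => ?_⟩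
  have hK : (Stk.restr (Stk.sieveIncl (R.functorPushforward u)) 𝒮).IsEquivalence := h𝒮.2 _ (hu.cover_preserve hR)
  have hp : (Stk.restr (pushHom u (Stk.sieveIncl R)) 𝒮).IsEquivalence :=
    (isEquivalence_restr_of_square (pushHom u (Stk.sieveIncl R)) (Stk.sieveIncl (R.functorPushforward u))
      (sliceMap u U) (sieveMap u R) rfl (isEquivalence_restr_sliceMap u 𝒮 h𝒮.1 U)
      (isEquivalence_restr_sieveMap u 𝒮 h𝒮.1 R)).1 hK
  haveI := hp
  haveI := isEquivalence_toPb u 𝒮 (overCat U) h𝒮.1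
  haveI := isEquivalence_toPb u 𝒮 (Stk.sieveCat R) h𝒮.1
  haveI : (toPb u 𝒮 (overCat U) ⋙ Stk.restr (Stk.sieveIncl R) (pb u 𝒮)).IsEquivalence :=
    Functor.isEquivalence_of_iso (toPbRestr u 𝒮 (Stk.sieveIncl R)).symm
  exact Functor.isEquivalence_of_comp_left (toPb u 𝒮 (overCat U)) (Stk.restr (Stk.sieveIncl R) (pb u 𝒮))

end site

end Groth.Agent.StkComp

end
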