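import Groth.Agent.FibCatRep.Cart
import Groth.Prelude.Def_W4stkalgstUpp
import Mathlib.CategoryTheory.Localization.CalculusOfFractions
import Mathlib.CategoryTheory.Limits.Shapes.FiniteLimits
import Mathlib.CategoryTheory.Limits.Preserves.Shapes.Pullbacks
import Mathlib.CategoryTheory.Limits.Preserves.Shapes.Equalizers
import Mathlib.CategoryTheory.Limits.Shapes.Equalizers
import Mathlib.CategoryTheory.Limits.Shapes.Pullback.IsPullback.Basic

/-!
The category `u_p 𝒮`: right calculus of fractions for `uppR`, and fibredness of the localisation.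
-/

set_option autoImplicit false
set_option backward.isDefEq.respectTransparency false
set_option backward.isDefEq.respectTransparency.types false
set_option linter.style.haveILetI false
universe v₃ u₃ v₂ u₂ v u

noncomputable section

namespace Groth.Agent.StkComp

open CategoryTheory CategoryTheory.Limits FibCat Stk Groth.Agent.FibCatRep

variable {C : Type u} [Category.{v} C] {D : Type u₂} [Category.{v₂} D] {u : C ⥤ D}
  {𝒮 : BasedCategory.{v₃, u₃} C}

lemma uppR_isMultiplicative : (uppR u 𝒮).IsMultiplicative where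
  id_mem a := ⟨cart_of_isIso (𝟙 a.x), show IsIso (𝟙 a.V) by infer_instance⟩
  comp_mem f g hf hg := ⟨cart_comp hf.1 hg.1, by
    haveI := hf.2
    haveI := hg.2
    show IsIso (f.bot ≫ g.bot)
    infer_instance⟩

theorem uppR_hasRightCalculus [𝒮.p.IsFibered] (hC : ∀ (I : Type) [SmallCategory I] [FinCategory I], Nonempty I → HasLimitsOfShape I C)
    (hu : ∀ (I : Type) [SmallCategory I] [FinCategory I], Nonempty I → PreservesLimitsOfShape I u) :
    (uppR u 𝒮).HasRightCalculusOfFractions := by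
  haveI := uppR_isMultiplicative (u := u) (𝒮 := 𝒮)
  haveI : HasPullbacks C := hC WalkingCospan ⟨WalkingCospan.one⟩
  haveI : HasEqualizers C := hC WalkingParallelPair ⟨WalkingParallelPair.zero⟩
  haveI : PreservesLimitsOfShape WalkingCospan u := hu WalkingCospan ⟨WalkingCospan.one⟩
  haveI : PreservesLimitsOfShape WalkingParallelPair u := hu WalkingParallelPair ⟨WalkingParallelPair.zero⟩
  refine { exists_rightFraction := ?_, ext := ?_ }
  · intro a b φ
    obtain ⟨f, s, hs⟩ := φ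
    haveI := hs.2
    let p₁ := 𝒮.p.map f.top
    let p₂ := 𝒮.p.map s.top
    obtain ⟨x', ψ, hx', hψ, hψc⟩ := exists_cart_lift (p := 𝒮.p) (x := a.x) (pullback.fst p₁ p₂)
    have hP := (IsPullback.of_hasPullback p₁ p₂).map u
    have hw : a.φ ≫ u.map p₁ = (f.bot ≫ inv s.bot ≫ b.φ) ≫ u.map p₂ := by
      rw [f.w, Category.assoc, Category.assoc, s.w, IsIso.inv_hom_id_assoc]
    let l := hP.lift a.φ (f.bot ≫ inv s.bot ≫ b.φ) hw
    obtain ⟨χ, ⟨hχ, hχc⟩, -⟩ := existsUnique_of_cart hs.1 (ψ ≫ f.top) (eqToHom hx' ≫ pullback.snd p₁ p₂) (by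
      rw [Functor.map_comp, hψ, Category.assoc, Category.assoc]
      exact congrArg _ pullback.condition.symm)
    let d : UppObj u 𝒮 := ⟨x', a.V, l ≫ eqToHom (congrArg u.obj hx').symm⟩
    let t : d ⟶ a := ⟨ψ, 𝟙 a.V, by
      rw [Category.id_comp, hψ, Functor.map_comp, eqToHom_map]
      simp [d, l]⟩
    let g : d ⟶ b := ⟨χ, f.bot ≫ inv s.bot, by
      rw [hχ, Functor.map_comp, eqToHom_map, Category.assoc]
      simp [d, l]⟩
    refine ⟨MorphismProperty.RightFraction.mk t ⟨hψc, show IsIso (𝟙 a.V) by infer_instance⟩ g,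
      UppObj.hom_ext ?_ ?_⟩
    · exact hχc.symm
    · show 𝟙 a.V ≫ f.bot = (f.bot ≫ inv s.bot) ≫ s.bot
      simp
  · intro a b b' f₁ f₂ s hs h
    haveI := hs.2
    have hbot : f₁.bot = f₂.bot := (cancel_mono s.bot).1 (congrArg (fun t => t.bot) h)
    have htop : f₁.top ≫ s.top = f₂.top ≫ s.top := congrArg (fun t => t.top) h
    let p₁ := 𝒮.p.map f₁.top
    let p₂ := 𝒮.p.map f₂.top
    obtain ⟨x', ψ, hx', hψ, hψc⟩ := exists_cart_lift (p := 𝒮.p) (x := a.x) (equalizer.ι p₁ p₂)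
    have hw : a.φ ≫ u.map p₁ = a.φ ≫ u.map p₂ := by rw [f₁.w, f₂.w, hbot]
    haveI : HasEqualizer (u.map p₁) (u.map p₂) := ⟨⟨⟨_, isLimitOfHasEqualizerOfPreservesLimit u p₁ p₂⟩⟩⟩
    let l : a.V ⟶ u.obj (equalizer p₁ p₂) := equalizer.lift a.φ hw ≫ inv (equalizerComparison p₁ p₂ u)
    have hl : l ≫ u.map (equalizer.ι p₁ p₂) = a.φ := by
      simp [l, ← equalizerComparison_comp_π]
    let d : UppObj u 𝒮 := ⟨x', a.V, l ≫ eqToHom (congrArg u.obj hx').symm⟩
    let t : d ⟶ a := ⟨ψ, 𝟙 a.V, by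
      rw [Category.id_comp, hψ, Functor.map_comp, eqToHom_map]
      simpa [d] using hl⟩
    refine ⟨d, t, ⟨hψc, show IsIso (𝟙 a.V) by infer_instance⟩, UppObj.hom_ext ?_ ?_⟩
    · refine cancel_of_cart hs.1 ?_ ?_
      · show 𝒮.p.map (ψ ≫ f₁.top) = 𝒮.p.map (ψ ≫ f₂.top)
        rw [Functor.map_comp, Functor.map_comp, hψ, Category.assoc, Category.assoc]
        exact congrArg _ (equalizer.condition p₁ p₂)
      · show (ψ ≫ f₁.top) ≫ s.top = (ψ ≫ f₂.top) ≫ s.top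
        rw [Category.assoc, Category.assoc, htop]
    · show 𝟙 _ ≫ f₁.bot = 𝟙 _ ≫ f₂.bot
      rw [hbot]

section fibred

variable [(uppR u 𝒮).HasRightCalculusOfFractions]

omit [(uppR u 𝒮).HasRightCalculusOfFractions] in
lemma up_map_Q {a b : UppObj u 𝒮} (f : a ⟶ b) : (up u 𝒮).p.map ((uppR u 𝒮).Q.map f) = f.bot :=
  (Functor.congr_hom (Localization.Construction.fac (UppObj.forget u 𝒮) (uppR_isInvertedBy u 𝒮)) f).trans (by simp)

/-- The lift of `f` at `b`. -/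
abbrev pullObj (b : UppObj u 𝒮) {V : D} (f : V ⟶ b.V) : UppObj u 𝒮 := ⟨b.x, V, f ≫ b.φ⟩

/-- The lift of `f` at `b`. -/
def pullHom (b : UppObj u 𝒮) {V : D} (f : V ⟶ b.V) : pullObj b f ⟶ b := ⟨𝟙 b.x, f, by simp [pullObj]⟩

/-- The lifts of arrows of the base are cartesian in the localisation. -/
lemma cart_pullHom (b : UppObj u 𝒮) {V : D} (f : V ⟶ b.V) :
    Cart (up u 𝒮).p ((uppR u 𝒮).Q.map (pullHom b f)) := by
  refine cart_mk _ fun {z} ψ g hg => ?_
  obtain ⟨c, rfl⟩ : ∃ c : UppObj u 𝒮, (uppR u 𝒮).Q.obj c = z :=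
    (Localization.Construction.objEquiv (uppR u 𝒮)).surjective z
  obtain ⟨φ, rfl⟩ := Localization.exists_rightFraction (uppR u 𝒮).Q (uppR u 𝒮) ψ
  obtain @⟨c', s, hs, k⟩ := φ
  let g' : c.V ⟶ V := g
  haveI := Localization.inverts (uppR u 𝒮).Q (uppR u 𝒮) s hs
  haveI := hs.2
  have hψ : (uppR u 𝒮).Q.map s ≫ (MorphismProperty.RightFraction.mk s hs k).map (uppR u 𝒮).Q
      (Localization.inverts _ _) = (uppR u 𝒮).Q.map k :=
    MorphismProperty.RightFraction.map_s_comp_map (MorphismProperty.RightFraction.mk s hs k) _ (Localization.inverts _ _)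
  have hk : k.bot = s.bot ≫ g' ≫ f := by
    have e := congrArg (up u 𝒮).p.map hψ
    rw [Functor.map_comp, ← hg, up_map_Q, up_map_Q, up_map_Q] at e
    exact e.symm
  let k' : c' ⟶ pullObj b f := ⟨k.top, s.bot ≫ g', by
    rw [k.w, hk]
    simp [pullObj]⟩
  have hkm : k' ≫ pullHom b f = k := UppObj.hom_ext (Category.comp_id _)
    (by show (s.bot ≫ g') ≫ f = k.bot; rw [hk, Category.assoc])
  refine ⟨inv ((uppR u 𝒮).Q.map s) ≫ (uppR u 𝒮).Q.map k', ⟨?_, ?_⟩, ?_⟩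
  · rw [Functor.map_comp, Functor.map_inv, IsIso.inv_comp_eq, up_map_Q, up_map_Q]
  · rw [Category.assoc, ← Functor.map_comp, hkm, IsIso.inv_comp_eq]
    exact hψ.symm
  · rintro χ ⟨hχ, hχc⟩
    obtain ⟨φ', rfl⟩ := Localization.exists_rightFraction (uppR u 𝒮).Q (uppR u 𝒮) χ
    obtain @⟨c'', s', hs', k''⟩ := φ'
    obtain ⟨ξ, hξ⟩ := (MorphismProperty.LeftFraction.mk (W := uppR u 𝒮) s' s hs).exists_rightFraction
    obtain @⟨e, t₁, ht₁, t₂⟩ := ξ
    dsimp at hξ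
    haveI := Localization.inverts (uppR u 𝒮).Q (uppR u 𝒮) _ ((uppR u 𝒮).comp_mem t₁ s' ht₁ hs')
    have h₁ : (uppR u 𝒮).Q.map (t₁ ≫ s') ≫ (MorphismProperty.RightFraction.mk s' hs' k'').map (uppR u 𝒮).Q
        (Localization.inverts _ _) = (uppR u 𝒮).Q.map (t₁ ≫ k'') := by
      have h₀ : (uppR u 𝒮).Q.map s' ≫ (MorphismProperty.RightFraction.mk s' hs' k'').map (uppR u 𝒮).Q
          (Localization.inverts _ _) = (uppR u 𝒮).Q.map k'' :=
        MorphismProperty.RightFraction.map_s_comp_map (MorphismProperty.RightFraction.mk s' hs' k'') _ (Localization.inverts _ _)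
      rw [Functor.map_comp, Category.assoc, h₀, ← Functor.map_comp]
    have h₂ : (uppR u 𝒮).Q.map (t₁ ≫ s') ≫ inv ((uppR u 𝒮).Q.map s) ≫ (uppR u 𝒮).Q.map k' =
        (uppR u 𝒮).Q.map (t₂ ≫ k') := by
      rw [hξ, Functor.map_comp, Category.assoc, IsIso.hom_inv_id_assoc, ← Functor.map_comp]
    have hbot₁ : (t₁ ≫ k'').bot = (t₁ ≫ s').bot ≫ g' := by
      have e := congrArg (up u 𝒮).p.map h₁
      rw [Functor.map_comp, hχ, up_map_Q, up_map_Q] at e
      exact e.symm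
    have hbot₂ : (t₂ ≫ k').bot = (t₁ ≫ s').bot ≫ g' := by
      rw [hξ]
      simp [k']
    have hm : (uppR u 𝒮).Q.map ((t₁ ≫ k'') ≫ pullHom b f) = (uppR u 𝒮).Q.map ((t₂ ≫ k') ≫ pullHom b f) := by
      rw [Functor.map_comp, ← h₁, Category.assoc, hχc, Category.assoc t₂, hkm, hξ, Functor.map_comp, Category.assoc,
        hψ, ← Functor.map_comp]
    obtain ⟨e', w, hw, hwe⟩ := (MorphismProperty.map_eq_iff_precomp (uppR u 𝒮).Q (uppR u 𝒮) _ _).1 hm
    rw [← cancel_epi ((uppR u 𝒮).Q.map (t₁ ≫ s')), h₁, h₂,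
      MorphismProperty.map_eq_iff_precomp (uppR u 𝒮).Q (uppR u 𝒮)]
    refine ⟨e', w, hw, UppObj.hom_ext ?_ ?_⟩
    · have := congrArg (fun t => t.top) hwe
      simpa [pullHom] using this
    · show w.bot ≫ (t₁ ≫ k'').bot = w.bot ≫ (t₂ ≫ k').bot
      rw [hbot₁, hbot₂]

theorem up_isFibered : (up u 𝒮).p.IsFibered := by
  refine isFibered_of_lifts fun x V f => ?_
  obtain ⟨b, rfl⟩ : ∃ b : UppObj u 𝒮, (uppR u 𝒮).Q.obj b = x :=
    (Localization.Construction.objEquiv (uppR u 𝒮)).surjective x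
  let f' : V ⟶ b.V := f
  exact ⟨(uppR u 𝒮).Q.obj (pullObj b f'), (uppR u 𝒮).Q.map (pullHom b f'), rfl,
    (up_map_Q _).trans (Category.id_comp f).symm, cart_pullHom b f'⟩

theorem up_isFibGrpd (h𝒮 : IsFibGrpd 𝒮.p) : IsFibGrpd (up u 𝒮).p := by
  haveI := up_isFibered (u := u) (𝒮 := 𝒮)
  refine ⟨fun {x V} f => ?_, fun {y x} φ => ?_⟩
  · obtain ⟨y, ψ, hy, hψ, -⟩ := exists_cart_lift (p := (up u 𝒮).p) f
    exact ⟨y, ψ, IsHomLift.of_fac' _ _ _ hy rfl (hψ.trans (by simp))⟩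
  · show Cart (up u 𝒮).p φ
    obtain ⟨a, rfl⟩ : ∃ a : UppObj u 𝒮, (uppR u 𝒮).Q.obj a = y :=
      (Localization.Construction.objEquiv (uppR u 𝒮)).surjective y
    obtain ⟨b, rfl⟩ : ∃ b : UppObj u 𝒮, (uppR u 𝒮).Q.obj b = x :=
      (Localization.Construction.objEquiv (uppR u 𝒮)).surjective x
    obtain ⟨ξ, rfl⟩ := Localization.exists_rightFraction (uppR u 𝒮).Q (uppR u 𝒮) φ
    obtain @⟨a', s, hs, k⟩ := ξ
    haveI := Localization.inverts (uppR u 𝒮).Q (uppR u 𝒮) s hs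
    let k₁ : a' ⟶ pullObj b k.bot := ⟨k.top, 𝟙 a'.V, by rw [k.w, Category.id_comp]⟩
    have hk₁ : uppR u 𝒮 k₁ := ⟨cart_of_grpd h𝒮 _, show IsIso (𝟙 a'.V) by infer_instance⟩
    haveI := Localization.inverts (uppR u 𝒮).Q (uppR u 𝒮) k₁ hk₁
    have hk : k₁ ≫ pullHom b k.bot = k := UppObj.hom_ext (Category.comp_id _) (Category.id_comp _)
    show Cart (up u 𝒮).p (inv ((uppR u 𝒮).Q.map s) ≫ (uppR u 𝒮).Q.map k)
    rw [← hk, Functor.map_comp, ← Category.assoc]
    exact cart_comp (cart_of_isIso _) (cart_pullHom b k.bot)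

end fibred

end Groth.Agent.StkComp

end
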