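import Groth.Agent.StkComp.Base
import Groth.Prelude.Def_W4c2modmodulilectNerve
import Mathlib.CategoryTheory.Comma.StructuredArrow.Basic
import Mathlib.CategoryTheory.Category.ULift

/-!
Restriction along a functor with simply connected comma categories, into categories fibred in groupoids.
-/

set_option autoImplicit false
set_option backward.isDefEq.respectTransparency false
set_option backward.isDefEq.respectTransparency.types false
set_option linter.style.haveILetI false
universe w₁ w₂ v₅ u₅ v₄ u₄ v₃ u₃ v₂ u₂ v u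

noncomputable section

namespace Groth.Agent.StkComp

open CategoryTheory FibCat Groth.Agent.FibCatRep Groth.Agent.StkBasic

section simply

attribute [local instance] uliftCategory

variable (J : Type u₂) [Category.{v₂} J] (G : Type u₃) [Category.{v₃} G]

/-- `J` is non-empty and simply connected as tested by `G`. -/
structure Simply : Prop where
  nonempty : Nonempty J
  ess : ∀ H : J ⥤ G, ∃ g : G, Nonempty ((Functor.const J).obj g ≅ H)
  conn : ∀ (y y' : G) (η : ∀ _ : J, y ⟶ y'), (∀ {a b : J} (_ : a ⟶ b), η a = η b) → ∀ a b, η a = η b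

variable {J G}

lemma simply_of_equiv {G' : Type u₄} [Category.{v₄} G'] (E : G ≌ G') (h : Simply J G') : Simply J G where
  nonempty := h.nonempty
  ess H := by
    obtain ⟨g', ⟨i⟩⟩ := h.ess (H ⋙ E.functor)
    exact ⟨E.inverse.obj g', ⟨(NatIso.ofComponents (fun _ => Iso.refl _)
        : (Functor.const J).obj (E.inverse.obj g') ≅ (Functor.const J).obj g' ⋙ E.inverse) ≪≫
      Functor.isoWhiskerRight i E.inverse ≪≫ Functor.associator _ _ _ ≪≫
      Functor.isoWhiskerLeft H E.unitIso.symm ≪≫ Functor.rightUnitor H⟩⟩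
  conn y y' η hη a b := E.functor.map_injective
    (h.conn _ _ (fun j => E.functor.map (η j)) (fun k => congrArg E.functor.map (hη k)) a b)

lemma simply_of_const_isEquivalence (hne : Nonempty J)
    (h : (Functor.const J : G ⥤ J ⥤ G).IsEquivalence) : Simply J G where
  nonempty := hne
  ess H := ⟨(Functor.const J).objPreimage H, ⟨(Functor.const J).objObjPreimageIso H⟩⟩
  conn y y' η hη a b := by
    let t : (Functor.const J).obj y ⟶ (Functor.const J).obj y' :=
      { app := η, naturality := fun p q k => by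
          show 𝟙 y ≫ η q = η p ≫ 𝟙 y'
          rw [Category.id_comp, Category.comp_id, hη k] }
    obtain ⟨f, hf⟩ := (Functor.const J).map_surjective t
    exact (congrArg (fun s => s.app a) hf).symm.trans (congrArg (fun s => s.app b) hf)

lemma simply_of_hasContractibleNerve [IsGroupoid G]
    (h : W4c2modmodulilect.HasContractibleNerve.{max w₁ u₃, max w₂ v₃} J) : Simply J G := by
  haveI : IsGroupoid (ULiftHom.{max w₂ v₃} (ULift.{max w₁ u₃} G)) :=
    ⟨fun {a b} f =>
      haveI : IsIso ((ULiftHomULiftCategory.equiv.{max w₂ v₃, max w₁ u₃} G).inverse.map f) := IsGroupoid.all_isIso _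
      isIso_of_reflects_iso f (ULiftHomULiftCategory.equiv.{max w₂ v₃, max w₁ u₃} G).inverse⟩
  letI := Groupoid.ofIsGroupoid (C := ULiftHom.{max w₂ v₃} (ULift.{max w₁ u₃} G))
  exact simply_of_equiv (ULiftHomULiftCategory.equiv.{max w₂ v₃, max w₁ u₃} G)
    (simply_of_const_isEquivalence h.1 (h.2 _))

/-- A non-empty category with weak binary products is simply connected. -/
lemma simply_of_weak_products [IsGroupoid G] (hne : Nonempty J)
    (h : ∀ a b : J, ∃ (P : J) (p₁ : P ⟶ a) (p₂ : P ⟶ b), ∀ (Q : J) (q₁ : Q ⟶ a) (q₂ : Q ⟶ b),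
      ∃ l : Q ⟶ P, l ≫ p₁ = q₁ ∧ l ≫ p₂ = q₂) : Simply J G where
  nonempty := hne
  ess H := by
    obtain ⟨a₀⟩ := hne
    choose P p₁ p₂ hl using fun a => h a a₀
    refine ⟨H.obj a₀, ⟨NatIso.ofComponents (fun a => (asIso (H.map (p₂ a))).symm ≪≫ asIso (H.map (p₁ a)))
      (fun {a b} k => ?_)⟩⟩
    obtain ⟨l, hl₁, hl₂⟩ := hl b (P a) (p₁ a ≫ k) (p₂ a)
    show 𝟙 _ ≫ inv (H.map (p₂ b)) ≫ H.map (p₁ b) = (inv (H.map (p₂ a)) ≫ H.map (p₁ a)) ≫ H.map k
    rw [Category.id_comp, Category.assoc, IsIso.inv_comp_eq]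
    have e₁ : H.map l ≫ H.map (p₁ b) = H.map (p₁ a) ≫ H.map k := by
      rw [← Functor.map_comp, hl₁, Functor.map_comp]
    have e₂ : H.map l ≫ H.map (p₂ b) = H.map (p₂ a) := by rw [← Functor.map_comp, hl₂]
    have e₃ : inv (H.map (p₂ a)) ≫ H.map l = inv (H.map (p₂ b)) := by
      rw [IsIso.inv_comp_eq, IsIso.eq_comp_inv]
      exact e₂
    rw [← e₁, reassoc_of% e₃, IsIso.hom_inv_id_assoc]
  conn y y' η hη a b := by
    obtain ⟨P, p₁, p₂, -⟩ := h a b
    exact (hη p₁).symm.trans (hη p₂)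

/-- Simple connectedness passes along `i : J' ⥤ J` when every object of `J` receives, functorially up to
unique lifting, an arrow from the image. -/
lemma simply_of_lifts {J' : Type u₄} [Category.{v₄} J'] (i : J' ⥤ J) (x' : J → J') (k : ∀ s, i.obj (x' s) ⟶ s)
    (hl : ∀ {s s' : J} (m : s ⟶ s'), ∃ m' : x' s ⟶ x' s', i.map m' ≫ k s' = k s ≫ m)
    [IsGroupoid G] (h : Simply J' G) : Simply J G where
  nonempty := h.nonempty.map i.obj
  ess H := by
    obtain ⟨g, ⟨ε⟩⟩ := h.ess (i ⋙ H)
    refine ⟨g, ⟨NatIso.ofComponents (fun s => ε.app (x' s) ≪≫ asIso (H.map (k s))) (fun {s s'} m => ?_)⟩⟩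
    obtain ⟨m', hm⟩ := hl m
    have e := ε.hom.naturality m'
    change 𝟙 g ≫ ε.hom.app (x' s') = ε.hom.app (x' s) ≫ H.map (i.map m') at e
    rw [Category.id_comp] at e
    show 𝟙 g ≫ ε.hom.app (x' s') ≫ H.map (k s') = (ε.hom.app (x' s) ≫ H.map (k s)) ≫ H.map m
    rw [Category.id_comp, Category.assoc, ← H.map_comp, ← hm, H.map_comp, e]
    exact Category.assoc _ _ _
  conn y y' η hη a b := by
    rw [← hη (k a), ← hη (k b)]
    exact h.conn y y' (fun j => η (i.obj j)) (fun m => hη (i.map m)) (x' a) (x' b)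

end simply

variable {C : Type u} [Category.{v} C]
variable {A : BasedCategory.{v₂, u₂} C} {A' : BasedCategory.{v₃, u₃} C} {𝒯 : BasedCategory.{v₄, u₄} C}

lemma isGroupoid_fiber (h𝒯 : IsFibGrpd 𝒯.p) (U : C) : IsGroupoid (𝒯.p.Fiber U) := ⟨fun {a b} φ => by
  have e := map_of_fiber φ
  haveI : IsIso (𝒯.p.map φ.1) := by rw [e]; infer_instance
  haveI : IsIso φ.1 := isIso_of_map h𝒯 φ.1
  exact ⟨fibHom b a (inv φ.1) (map_inv_of_eqToHom _ e), Subtype.ext (IsIso.hom_inv_id φ.1),
    Subtype.ext (IsIso.inv_hom_id φ.1)⟩⟩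

/-- Restriction along a functor with simply connected comma categories is an equivalence. -/
theorem isEquivalence_restr_of_simply (j : A' ⥤ᵇ A) (h𝒯 : IsFibGrpd 𝒯.p)
    (hc : ∀ (z : A.obj) (U : C), Simply (StructuredArrow z j.toFunctor) (𝒯.p.Fiber U)) :
    (Stk.restr j 𝒯).IsEquivalence := by
  let base : ∀ {z : A.obj} (w : StructuredArrow z j.toFunctor), A.p.obj z ⟶ A'.p.obj w.right :=
    fun {z} w => A.p.map w.hom ≫ eqToHom (j.w_obj w.right)
  have hbase : ∀ {z : A.obj} {w w' : StructuredArrow z j.toFunctor} (k : w ⟶ w'),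
      base w ≫ A'.p.map k.right = base w' := fun {z w w'} k => by
    have e := congrArg A.p.map (StructuredArrow.w k)
    have e₂ : A.p.map (j.map k.right) = eqToHom (j.w_obj w.right) ≫ A'.p.map k.right ≫
        eqToHom (j.w_obj w'.right).symm := map_map j k.right
    rw [Functor.map_comp, e₂] at e
    show (A.p.map w.hom ≫ eqToHom _) ≫ A'.p.map k.right = A.p.map w'.hom ≫ eqToHom _
    rw [← e]
    simp
  -- faithful
  haveI : (Stk.restr j 𝒯).Faithful := ⟨fun {a b} α β h => by
    apply BasedNatTrans.homCategory.ext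
    ext z
    obtain ⟨w⟩ := (hc z (A.p.obj z)).nonempty
    refine cancel h𝒯 (b.map w.hom) ((map_app α z).trans (map_app β z).symm) ?_
    rw [← α.toNatTrans.naturality, ← β.toNatTrans.naturality]
    exact congrArg (a.map w.hom ≫ ·) (congrArg (fun t => t.toNatTrans.app w.right) h)⟩
  -- full
  haveI : (Stk.restr j 𝒯).Full := ⟨fun {a b} γ => by
    have hex : ∀ (z : A.obj) (w : StructuredArrow z j.toFunctor), ∃ η : a.obj z ⟶ b.obj z,
        𝒯.p.map η = eqToHom ((a.w_obj z).trans (b.w_obj z).symm) ∧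
        η ≫ b.map w.hom = a.map w.hom ≫ γ.toNatTrans.app w.right := fun z w => by
      have hg : 𝒯.p.map (γ.toNatTrans.app w.right) = eqToHom _ := map_app γ w.right
      obtain ⟨η, hη, -⟩ := existsUnique_cart h𝒯 (b.map w.hom) (a.map w.hom ≫ γ.toNatTrans.app w.right)
        (eqToHom ((a.w_obj z).trans (b.w_obj z).symm)) (by simp [map_map, hg])
      exact ⟨η, hη⟩
    choose η hp hη using hex
    have hindep : ∀ (z : A.obj) (w w' : StructuredArrow z j.toFunctor), η z w = η z w' := fun z w w' => by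
      let Ya : 𝒯.p.Fiber (A.p.obj z) := ⟨a.obj z, a.w_obj z⟩
      let Yb : 𝒯.p.Fiber (A.p.obj z) := ⟨b.obj z, b.w_obj z⟩
      refine congrArg Subtype.val ((hc z (A.p.obj z)).conn Ya Yb (fun w => fibHom Ya Yb (η z w) (hp z w))
        (fun {p q} k => Subtype.ext ?_) w w')
      show η z p = η z q
      refine cancel h𝒯 (b.map q.hom) (by rw [hp, hp]) ?_
      have nat : a.map (j.map k.right) ≫ γ.toNatTrans.app q.right = γ.toNatTrans.app p.right ≫ b.map (j.map k.right) :=
        γ.toNatTrans.naturality k.right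
      rw [hη z q, ← StructuredArrow.w k, Functor.map_comp, Functor.map_comp, reassoc_of% (hη z p), Category.assoc,
        ← nat]
    let w₀ : ∀ z, StructuredArrow z j.toFunctor := fun z => (hc z (A.p.obj z)).nonempty.some
    refine ⟨{ app := fun z => η z (w₀ z)
              naturality := fun z' z n => ?_
              isHomLift' := fun z => IsHomLift.of_fac' 𝒯.p _ _ (a.w_obj z) (b.w_obj z)
                ((hp z (w₀ z)).trans (by simp)) }, ?_⟩
    · show a.map n ≫ η z (w₀ z) = η z' (w₀ z') ≫ b.map n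
      let w' : StructuredArrow z' j.toFunctor := StructuredArrow.mk (n ≫ (w₀ z).hom)
      refine cancel h𝒯 (b.map (w₀ z).hom) (by simp [map_map, hp]) ?_
      rw [Category.assoc, hη, ← Functor.map_comp_assoc, hindep z' (w₀ z') w', Category.assoc, ← Functor.map_comp]
      exact (hη z' w').symm
    · apply BasedNatTrans.homCategory.ext
      ext x
      let w : StructuredArrow (j.obj x) j.toFunctor := StructuredArrow.mk (𝟙 (j.obj x))
      have h := hη (j.obj x) w
      show η (j.obj x) (w₀ (j.obj x)) = _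
      rw [hindep _ _ w]
      simp only [w, StructuredArrow.mk_hom_eq_self, CategoryTheory.Functor.map_id, Category.comp_id,
        Category.id_comp] at h
      exact h⟩
  -- essentially surjective
  haveI : (Stk.restr j 𝒯).EssSurj := ⟨fun t => by
    have hlift : ∀ (z : A.obj) (w : StructuredArrow z j.toFunctor), ∃ (y : 𝒯.obj) (φ : y ⟶ t.obj w.right)
        (h : 𝒯.p.obj y = A.p.obj z), 𝒯.p.map φ = eqToHom h ≫ base w ≫ eqToHom (t.w_obj w.right).symm :=
      fun z w => exists_lift h𝒯 (x := t.obj w.right) (base w ≫ eqToHom (t.w_obj w.right).symm)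
    choose y φ hy hφ using hlift
    have hstep : ∀ (z : A.obj) {w w' : StructuredArrow z j.toFunctor} (k : w ⟶ w'), ∃ χ : y z w ⟶ y z w',
        𝒯.p.map χ = eqToHom ((hy z w).trans (hy z w').symm) ∧ χ ≫ φ z w' = φ z w ≫ t.map k.right := by
      intro z w w' k
      obtain ⟨χ, hχ, -⟩ := existsUnique_cart h𝒯 (φ z w') (φ z w ≫ t.map k.right)
        (eqToHom ((hy z w).trans (hy z w').symm)) (by simp [map_map, hφ, reassoc_of% (hbase k)])
      exact ⟨χ, hχ⟩
    choose χ hχp hχ using hstep
    let H : ∀ z, StructuredArrow z j.toFunctor ⥤ 𝒯.p.Fiber (A.p.obj z) := fun z =>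
      { obj := fun w => ⟨y z w, hy z w⟩
        map := fun {w w'} k => fibHom _ _ (χ z k) (hχp z k)
        map_id := fun w => Subtype.ext (cancel h𝒯 (φ z w) (by
          show 𝒯.p.map (χ z (𝟙 w)) = 𝒯.p.map (𝟙 _)
          rw [hχp, CategoryTheory.Functor.map_id, eqToHom_refl]) (by
          show χ z (𝟙 w) ≫ φ z w = 𝟙 _ ≫ φ z w
          rw [hχ, Category.id_comp]
          exact (congrArg (φ z w ≫ ·) (t.toFunctor.map_id _)).trans (Category.comp_id _)))
        map_comp := fun {w w' w''} k k' => Subtype.ext (cancel h𝒯 (φ z w'') (by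
          show 𝒯.p.map (χ z (k ≫ k')) = 𝒯.p.map (χ z k ≫ χ z k')
          rw [Functor.map_comp, hχp, hχp, hχp, eqToHom_trans]) (by
          show χ z (k ≫ k') ≫ φ z w'' = (χ z k ≫ χ z k') ≫ φ z w''
          rw [hχ, Category.assoc, hχ, reassoc_of% (hχ z k)]
          exact congrArg (φ z w ≫ ·) (t.toFunctor.map_comp _ _))) }
    choose g hg using fun z => (hc z (A.p.obj z)).ess (H z)
    let ε := fun z => (hg z).some
    let ψ : ∀ (z : A.obj) (w : StructuredArrow z j.toFunctor), (g z).1 ⟶ t.obj w.right :=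
      fun z w => ((ε z).hom.app w).1 ≫ φ z w
    have hψp : ∀ z w, 𝒯.p.map (ψ z w) = eqToHom (g z).2 ≫ base w ≫ eqToHom (t.w_obj w.right).symm := fun z w => by
      have e : 𝒯.p.map ((ε z).hom.app w).1 = eqToHom _ := map_of_fiber ((ε z).hom.app w)
      show 𝒯.p.map (((ε z).hom.app w).1 ≫ φ z w) = _
      rw [Functor.map_comp, e, hφ]
      simp
    have hψk : ∀ (z : A.obj) {w w' : StructuredArrow z j.toFunctor} (k : w ⟶ w'),
        ψ z w ≫ t.map k.right = ψ z w' := fun z {w w'} k => by
      have nat := congrArg Subtype.val ((ε z).hom.naturality k)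
      change 𝟙 _ ≫ ((ε z).hom.app w').1 = ((ε z).hom.app w).1 ≫ χ z k at nat
      rw [Category.id_comp] at nat
      show (((ε z).hom.app w).1 ≫ φ z w) ≫ t.map k.right = ((ε z).hom.app w').1 ≫ φ z w'
      rw [nat, Category.assoc, Category.assoc, hχ]
    let nw : ∀ {z' z : A.obj} (_ : z' ⟶ z) (_ : StructuredArrow z j.toFunctor), StructuredArrow z' j.toFunctor :=
      fun n w => StructuredArrow.mk (n ≫ w.hom)
    have hmap : ∀ {z' z : A.obj} (n : z' ⟶ z), ∃ m : (g z').1 ⟶ (g z).1,
        𝒯.p.map m = eqToHom (g z').2 ≫ A.p.map n ≫ eqToHom (g z).2.symm ∧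
        ∀ w, m ≫ ψ z w = ψ z' (nw n w) := by
      intro z' z n
      obtain ⟨d, lam, hd, hlam⟩ := exists_lift h𝒯 (x := (g z).1) (A.p.map n ≫ eqToHom (g z).2.symm)
      let Yd : 𝒯.p.Fiber (A.p.obj z') := ⟨d, hd⟩
      have hw : ∀ w : StructuredArrow z j.toFunctor, ∃ c : g z' ⟶ Yd, c.1 ≫ lam ≫ ψ z w = ψ z' (nw n w) := fun w => by
        obtain ⟨c, ⟨hcp, hcc⟩, -⟩ := existsUnique_cart h𝒯 (lam ≫ ψ z w) (ψ z' (nw n w))
          (eqToHom ((g z').2.trans hd.symm)) (by
            simp [hψp, hlam, base, nw])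
        exact ⟨fibHom _ _ c hcp, hcc⟩
      choose c hc' using hw
      have hcc : ∀ w w', c w = c w' := fun w w' => (hc z (A.p.obj z')).conn (g z') Yd c (fun {p q} k => by
        refine Subtype.ext (cancel h𝒯 (lam ≫ ψ z q) ((map_of_fiber (c p)).trans (map_of_fiber (c q)).symm) ?_)
        rw [hc' q, ← hψk z k, reassoc_of% (hc' p)]
        exact hψk z' (StructuredArrow.homMk (f := nw n p) (f' := nw n q) k.right (by
          show (n ≫ p.hom) ≫ j.map k.right = n ≫ q.hom
          rw [Category.assoc, StructuredArrow.w]))) w w'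
      let w₀ : StructuredArrow z j.toFunctor := (hc z (A.p.obj z)).nonempty.some
      refine ⟨(c w₀).1 ≫ lam, ?_, fun w => ?_⟩
      · rw [Functor.map_comp, map_of_fiber, hlam]
        simp [Yd]
      · rw [Category.assoc, hcc w₀ w, hc' w]
    choose m hmp hmψ using @hmap
    have huniq : ∀ {z' z : A.obj} (m₁ m₂ : (g z').1 ⟶ (g z).1), 𝒯.p.map m₁ = 𝒯.p.map m₂ →
        (∀ w, m₁ ≫ ψ z w = m₂ ≫ ψ z w) → m₁ = m₂ := fun {z' z} m₁ m₂ hp hw =>
      cancel h𝒯 (ψ z (hc z (A.p.obj z)).nonempty.some) hp (hw _)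
    have hψeq : ∀ (z : A.obj) {Y : A'.obj} (f f' : z ⟶ j.obj Y), f = f' →
        ψ z (StructuredArrow.mk f) = ψ z (StructuredArrow.mk f') := fun z Y f f' e => by
      subst e
      rfl
    let a : A ⥤ᵇ 𝒯 :=
      { toFunctor :=
          { obj := fun z => (g z).1
            map := fun n => m n
            map_id := fun z => huniq _ _ (by rw [hmp]; simp) (fun w => by
              rw [hmψ, Category.id_comp]
              exact hψeq z _ _ (Category.id_comp w.hom))
            map_comp := fun {z'' z' z} n' n => huniq _ _ (by rw [hmp]; simp [hmp]) (fun w => by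
              rw [hmψ, Category.assoc, hmψ, hmψ]
              exact hψeq z'' _ _ (Category.assoc n' n w.hom)) }
        w := CategoryTheory.Functor.ext (fun z => (g z).2) (fun z' z n => hmp n) }
    let one : ∀ x, StructuredArrow (j.obj x) j.toFunctor := fun x => StructuredArrow.mk (𝟙 (j.obj x))
    have hone : ∀ x, 𝒯.p.map (ψ (j.obj x) (one x)) = eqToHom ((g (j.obj x)).2.trans ((j.w_obj x).trans (t.w_obj x).symm)) :=
      fun x => by
        rw [hψp]
        simp [base, one]
    haveI : ∀ x, IsIso (ψ (j.obj x) (one x)) := fun x => by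
      haveI : IsIso (𝒯.p.map (ψ (j.obj x) (one x))) := by rw [hone]; infer_instance
      exact isIso_of_map h𝒯 _
    refine ⟨a, ⟨BasedNatIso.mkNatIso (NatIso.ofComponents (fun x => asIso (ψ (j.obj x) (one x))) (fun {x x'} k => ?_))
      (fun x => IsHomLift.of_fac' 𝒯.p _ _ ((g (j.obj x)).2.trans (j.w_obj x)) (t.w_obj x)
        ((hone x).trans (by simp)))⟩⟩
    show m (j.map k) ≫ ψ (j.obj x') (one x') = ψ (j.obj x) (one x) ≫ t.map k
    rw [hmψ]
    exact (hψk (j.obj x) (StructuredArrow.homMk (f := one x) (f' := nw (j.map k) (one x')) k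
      ((Category.id_comp _).trans (Category.comp_id _).symm))).symm⟩
  exact { }

end Groth.Agent.StkComp

end
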