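import Groth.Agent.StkBasic.Transport

/-!
Categories over a category over `C`: functors into them, and descent for the composite.
-/

set_option autoImplicit false
set_option backward.isDefEq.respectTransparency false
set_option backward.isDefEq.respectTransparency.types false
set_option linter.style.haveILetI false
universe v₈ u₈ v₇ u₇ v₆ u₆ v₅ u₅ v₄ u₄ v₃ u₃ v₂ u₂ v u

noncomputable section

namespace Groth.Agent.StkComp

open CategoryTheory FibCat Groth.Agent.FibCatRep Groth.Agent.StkBasic

variable {C : Type u} [Category.{v} C]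

section equiv

variable {A : BasedCategory.{v₂, u₂} C} {A' : BasedCategory.{v₃, u₃} C} {𝒯 : BasedCategory.{v₄, u₄} C}

/-- Restriction along an equivalence of categories, into a category fibred in groupoids. -/
theorem isEquivalence_restr_of_isEquivalence (u : A ⥤ᵇ A') [u.toFunctor.IsEquivalence]
    (h𝒯 : IsFibGrpd 𝒯.p) : (Stk.restr u 𝒯).IsEquivalence := by
  let F := u.toFunctor
  let z : A'.obj → A.obj := fun n => F.objPreimage n
  let e : ∀ n, u.obj (z n) ≅ n := fun n => F.objObjPreimageIso n
  haveI : (Stk.restr u 𝒯).Faithful := ⟨fun {a b} α β h => by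
    apply BasedNatTrans.homCategory.ext
    ext n
    have hz : α.toNatTrans.app (u.obj (z n)) = β.toNatTrans.app (u.obj (z n)) :=
      congrArg (fun t => t.toNatTrans.app (z n)) h
    haveI : IsIso (a.map (e n).hom) := inferInstanceAs (IsIso (a.toFunctor.map (e n).hom))
    rw [← cancel_epi (a.map (e n).hom), α.toNatTrans.naturality, β.toNatTrans.naturality, hz]⟩
  haveI : (Stk.restr u 𝒯).Full := ⟨fun {a b} γ => by
    let η : ∀ n, a.obj n ⟶ b.obj n := fun n =>
      a.map (e n).inv ≫ γ.toNatTrans.app (z n) ≫ b.map (e n).hom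
    have hγ : ∀ (w : A.obj) (n : A'.obj) (m : u.obj w ⟶ n), a.map m ≫ η n = γ.toNatTrans.app w ≫ b.map m := by
      intro w n m
      obtain ⟨k, hk⟩ := F.map_surjective (m ≫ (e n).inv)
      have nat : a.map (u.map k) ≫ γ.toNatTrans.app (z n) = γ.toNatTrans.app w ≫ b.map (u.map k) :=
        γ.toNatTrans.naturality k
      have hm : u.map k ≫ (e n).hom = m := by
        show F.map k ≫ _ = m
        rw [hk, Category.assoc, Iso.inv_hom_id, Category.comp_id]
      calc a.map m ≫ η n = a.map (u.map k) ≫ γ.toNatTrans.app (z n) ≫ b.map (e n).hom := by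
            simp only [η, ← hm, Functor.map_comp, Category.assoc]
            rw [← Functor.map_comp_assoc a.toFunctor (e n).hom, Iso.hom_inv_id, CategoryTheory.Functor.map_id,
              Category.id_comp]
        _ = γ.toNatTrans.app w ≫ b.map m := by
            rw [reassoc_of% nat, ← Functor.map_comp, hm]
    have hp : ∀ n, 𝒯.p.map (η n) = eqToHom ((a.w_obj n).trans (b.w_obj n).symm) := fun n => by
      have hg : 𝒯.p.map (γ.toNatTrans.app (z n)) = eqToHom _ := map_app γ (z n)
      simp only [η, Functor.map_comp, map_map, hg]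
      simp
    refine ⟨{ app := η
              naturality := fun n n' m => ?_
              isHomLift' := fun n => IsHomLift.of_fac' 𝒯.p _ _ (a.w_obj n) (b.w_obj n)
                ((hp n).trans (by simp)) }, ?_⟩
    · show a.map m ≫ η n' = η n ≫ b.map m
      haveI : IsIso (a.map (e n).hom) := inferInstanceAs (IsIso (a.toFunctor.map (e n).hom))
      rw [← cancel_epi (a.map (e n).hom), ← Category.assoc, ← Functor.map_comp, hγ (z n),
        reassoc_of% (hγ (z n) n (e n).hom), Functor.map_comp]
    · apply BasedNatTrans.homCategory.ext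
      ext w
      have h := hγ w (u.obj w) (𝟙 _)
      rw [CategoryTheory.Functor.map_id, CategoryTheory.Functor.map_id, Category.id_comp] at h
      exact h.trans (Category.comp_id _)⟩
  haveI : (Stk.restr u 𝒯).EssSurj := ⟨fun b => by
    have hex : ∀ n, ∃ (y : 𝒯.obj) (φ : y ≅ b.obj (z n)) (h : 𝒯.p.obj y = A'.p.obj n),
        𝒯.p.map φ.hom = eqToHom h ≫ A'.p.map (e n).inv ≫ eqToHom ((u.w_obj (z n)).trans (b.w_obj (z n)).symm) := by
      intro n
      obtain ⟨y, φ, h, hφ⟩ := exists_lift h𝒯 (x := b.obj (z n))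
        (A'.p.map (e n).inv ≫ eqToHom ((u.w_obj (z n)).trans (b.w_obj (z n)).symm))
      haveI : IsIso (𝒯.p.map φ) := by rw [hφ]; infer_instance
      haveI := isIso_of_map h𝒯 φ
      exact ⟨y, asIso φ, h, hφ⟩
    choose y φ hy hφ using hex
    let k : ∀ {n n' : A'.obj}, (n ⟶ n') → (z n ⟶ z n') := fun {n n'} m =>
      F.preimage ((e n).hom ≫ m ≫ (e n').inv)
    have hk : ∀ {n n' : A'.obj} (m : n ⟶ n'), u.map (k m) = (e n).hom ≫ m ≫ (e n').inv :=
      fun m => F.map_preimage _
    let a : A' ⥤ᵇ 𝒯 :=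
      { toFunctor :=
          { obj := y
            map := fun {n n'} m => (φ n).hom ≫ b.map (k m) ≫ (φ n').inv
            map_id := fun n => by
              have : k (𝟙 n) = 𝟙 (z n) := F.map_injective (by
                show u.map (k (𝟙 n)) = _
                rw [hk]; simp; rfl)
              rw [this, CategoryTheory.Functor.map_id, Category.id_comp, Iso.hom_inv_id]
            map_comp := fun {n n' n''} m m' => by
              have : k (m ≫ m') = k m ≫ k m' := F.map_injective (by
                show u.map (k (m ≫ m')) = _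
                rw [hk, Functor.map_comp]
                show _ = u.map (k m) ≫ u.map (k m')
                rw [hk, hk]
                simp)
              rw [this, Functor.map_comp]
              simp }
        w := CategoryTheory.Functor.ext hy (fun n n' m => by
          have h1 := map_map b (k m)
          have h2 : A.p.map (k m) = eqToHom (u.w_obj (z n)).symm ≫ A'.p.map (u.map (k m)) ≫
              eqToHom (u.w_obj (z n')) := by
            rw [map_map u (k m)]; simp
          show 𝒯.p.map ((φ n).hom ≫ b.map (k m) ≫ (φ n').inv) = _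
          rw [← cancel_mono (𝒯.p.map (φ n').hom), Functor.map_comp, Functor.map_comp, Category.assoc,
            Category.assoc, ← Functor.map_comp, Iso.inv_hom_id, CategoryTheory.Functor.map_id,
            Category.comp_id, hφ, hφ, h1, h2, hk]
          simp) }
    refine ⟨a, ⟨BasedNatIso.mkNatIso (NatIso.ofComponents
      (fun w => φ (u.obj w) ≪≫ b.toFunctor.mapIso (F.preimageIso (e (u.obj w)))) (fun {w w'} g => ?_)) ?_⟩⟩
    · show ((φ (u.obj w)).hom ≫ b.map (k (u.map g)) ≫ (φ (u.obj w')).inv) ≫ (φ (u.obj w')).hom ≫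
        b.map (F.preimage (e (u.obj w')).hom) =
        ((φ (u.obj w)).hom ≫ b.map (F.preimage (e (u.obj w)).hom)) ≫ b.map g
      simp only [Category.assoc, Iso.inv_hom_id_assoc, ← Functor.map_comp]
      congr 2
      apply F.map_injective
      rw [F.map_comp, F.map_comp, F.map_preimage, F.map_preimage]
      simp [F]
    · intro w
      have h1 := map_map b (F.preimage (e (u.obj w)).hom)
      have h2 := map_map u (F.preimage (e (u.obj w)).hom)
      rw [show u.map (F.preimage (e (u.obj w)).hom) = (e (u.obj w)).hom from F.map_preimage _] at h2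
      have h2' : A.p.map (F.preimage (e (u.obj w)).hom) = eqToHom (u.w_obj _).symm ≫ A'.p.map (e (u.obj w)).hom ≫
          eqToHom (u.w_obj w) := by rw [h2]; simp
      refine IsHomLift.of_fac' 𝒯.p _ _ ((hy (u.obj w)).trans (u.w_obj w)) (b.w_obj w) ?_
      show 𝒯.p.map ((φ (u.obj w)).hom ≫ b.map (F.preimage (e (u.obj w)).hom)) = _
      rw [Functor.map_comp, hφ, h1, h2']
      simp [← Functor.map_comp_assoc]⟩
  exact { }

variable {D : BasedCategory.{v₅, u₅} C} {D' : BasedCategory.{v₆, u₆} C}

/-- Transfer of restriction equivalences along a strict square. -/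
theorem isEquivalence_restr_of_square (j : A' ⥤ᵇ A) (j' : D' ⥤ᵇ D) (s : A ⥤ᵇ D) (s' : A' ⥤ᵇ D')
    (h : BasedFunctor.comp s' j' = BasedFunctor.comp j s) (hs : (Stk.restr s 𝒯).IsEquivalence)
    (hs' : (Stk.restr s' 𝒯).IsEquivalence) :
    (Stk.restr j' 𝒯).IsEquivalence ↔ (Stk.restr j 𝒯).IsEquivalence := by
  haveI := hs
  haveI := hs'
  have key : ∀ (a : D' ⥤ᵇ D), (Stk.restr a 𝒯 ⋙ Stk.restr s' 𝒯) = Stk.restr (BasedFunctor.comp s' a) 𝒯 :=
    fun a => rfl
  have e : Stk.restr j' 𝒯 ⋙ Stk.restr s' 𝒯 = Stk.restr s 𝒯 ⋙ Stk.restr j 𝒯 := by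
    rw [key j', h]
    rfl
  constructor
  · intro h'
    haveI : (Stk.restr s 𝒯 ⋙ Stk.restr j 𝒯).IsEquivalence := by rw [← e]; infer_instance
    exact Functor.isEquivalence_of_comp_left (Stk.restr s 𝒯) (Stk.restr j 𝒯)
  · intro h'
    haveI : (Stk.restr j' 𝒯 ⋙ Stk.restr s' 𝒯).IsEquivalence := by rw [e]; infer_instance
    exact Functor.isEquivalence_of_comp_right (Stk.restr j' 𝒯) (Stk.restr s' 𝒯)

end equiv

section composite

variable {B : BasedCategory.{v₂, u₂} C} (T : BasedCategory.{v₃, u₃} B.obj)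

/-- The composite category over `C`. -/
abbrev total : BasedCategory.{v₃, u₃} C := BasedCategory.ofFunctor (T.p ⋙ B.p)

/-- The projection of the composite. -/
def proj : total T ⥤ᵇ B where
  toFunctor := T.p
  w := rfl

variable {T}
variable {A : BasedCategory.{v₄, u₄} C} {x : A ⥤ᵇ B}

/-- A functor over `B` as a functor over `C`. -/
def down (a : BasedCategory.ofFunctor x.toFunctor ⥤ᵇ T) : A ⥤ᵇ total T where
  toFunctor := a.toFunctor
  w := by
    show (a.toFunctor ⋙ T.p) ⋙ B.p = A.p
    rw [a.w]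
    exact x.w

/-- A morphism of functors over `B` as a morphism of functors over `C`. -/
def downMap {a a' : BasedCategory.ofFunctor x.toFunctor ⥤ᵇ T} (γ : a ⟶ a') : down a ⟶ down a' where
  toNatTrans := γ.toNatTrans
  isHomLift' z := by
    have h : T.p.map (γ.toNatTrans.app z) = eqToHom _ := map_app γ z
    refine IsHomLift.of_fac' (total T).p _ _ ((down a).w_obj z) ((down a').w_obj z) ?_
    show B.p.map (T.p.map (γ.toNatTrans.app z)) = _
    rw [h, eqToHom_map]
    simp

/-- A morphism over `C` lying over identities of `B` is a morphism over `B`. -/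
def upMap {a a' : BasedCategory.ofFunctor x.toFunctor ⥤ᵇ T} (γ : down a ⟶ down a')
    (h : ∀ z, T.p.map (γ.toNatTrans.app z) = eqToHom ((a.w_obj z).trans (a'.w_obj z).symm)) : a ⟶ a' where
  toNatTrans := γ.toNatTrans
  isHomLift' z := IsHomLift.of_fac' T.p _ _ (a.w_obj z) (a'.w_obj z) ((h z).trans (by simp))

/-- An isomorphism over `B` from one over `C` lying over identities of `B`. -/
def upIso {a a' : BasedCategory.ofFunctor x.toFunctor ⥤ᵇ T} (i : down a ≅ down a')
    (h : ∀ z, T.p.map (i.hom.toNatTrans.app z) = eqToHom ((a.w_obj z).trans (a'.w_obj z).symm)) : a ≅ a' where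
  hom := upMap i.hom h
  inv := upMap i.inv fun z => by
    let iz : (down a).obj z ≅ (down a').obj z := ((BasedNatTrans.forgetful _ _).mapIso i).app z
    show T.p.map iz.inv = _
    rw [← IsIso.Iso.inv_hom iz]
    exact map_inv_of_eqToHom _ (h z)
  hom_inv_id := by
    apply BasedNatTrans.homCategory.ext
    exact congrArg (fun t => t.toNatTrans) i.hom_inv_id
  inv_hom_id := by
    apply BasedNatTrans.homCategory.ext
    exact congrArg (fun t => t.toNatTrans) i.inv_hom_id

/-- Replace a functor over `C` by one over `B`. -/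
lemma rectify (hT : IsFibGrpd T.p) (a : A ⥤ᵇ total T) (δ : x ≅ BasedFunctor.comp a (proj T)) :
    ∃ (a' : BasedCategory.ofFunctor x.toFunctor ⥤ᵇ T) (ρ : down a' ≅ a),
      ∀ z, T.p.map (ρ.hom.toNatTrans.app z) = eqToHom (a'.w_obj z) ≫ δ.hom.toNatTrans.app z := by
  let d : ∀ z, x.obj z ≅ T.p.obj (a.obj z) := fun z => ((BasedNatTrans.forgetful _ _).mapIso δ).app z
  have hex : ∀ z, ∃ (y : T.obj) (φ : y ≅ a.obj z) (h : T.p.obj y = x.obj z),
      T.p.map φ.hom = eqToHom h ≫ (d z).hom := by
    intro z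
    obtain ⟨y, φ, h, hφ⟩ := exists_lift hT (x := a.obj z) (d z).hom
    haveI : IsIso (T.p.map φ) := by rw [hφ]; infer_instance
    haveI := isIso_of_map hT φ
    exact ⟨y, asIso φ, h, hφ⟩
  choose y φ hy hφ using hex
  let a' : BasedCategory.ofFunctor x.toFunctor ⥤ᵇ T :=
    { toFunctor :=
        { obj := y
          map := fun {z z'} m => (φ z).hom ≫ a.map m ≫ (φ z').inv
          map_id := fun z => (congrArg (fun k => (φ z).hom ≫ k ≫ (φ z).inv) (a.toFunctor.map_id z)).trans
            (by simp)
          map_comp := fun {z z' z''} m m' =>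
            (congrArg (fun k => (φ z).hom ≫ k ≫ (φ z'').inv) (a.toFunctor.map_comp m m')).trans (by simp) }
      w := CategoryTheory.Functor.ext hy (fun z z' m => by
        have nat : x.map m ≫ (d z').hom = (d z).hom ≫ T.p.map (a.map m) := δ.hom.toNatTrans.naturality m
        show T.p.map ((φ z).hom ≫ a.map m ≫ (φ z').inv) = eqToHom (hy z) ≫ x.map m ≫ eqToHom (hy z').symm
        rw [← cancel_mono (T.p.map (φ z').hom), Functor.map_comp, Functor.map_comp, Category.assoc,
          Category.assoc, ← Functor.map_comp, Iso.inv_hom_id, CategoryTheory.Functor.map_id,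
          Category.comp_id, hφ, hφ]
        simp [nat]) }
  refine ⟨a', BasedNatIso.mkNatIso (NatIso.ofComponents φ (fun {z z'} m => by
      show ((φ z).hom ≫ a.map m ≫ (φ z').inv) ≫ (φ z').hom = (φ z).hom ≫ a.map m
      simp)) ?_, fun z => hφ z⟩
  intro z
  have hd : B.p.map (d z).hom = eqToHom _ := map_app δ.hom z
  refine IsHomLift.of_fac' (total T).p _ _ ((down a').w_obj z) (a.w_obj z) ?_
  show B.p.map (T.p.map (φ z).hom) = _
  rw [hφ, Functor.map_comp, hd, eqToHom_map]
  simp

variable {A' : BasedCategory.{v₅, u₅} C} (j : A' ⥤ᵇ A)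

/-- The functor over `B` induced by a functor over `C`. -/
def onBase (x : A ⥤ᵇ B) :
    BasedCategory.ofFunctor (BasedFunctor.comp j x).toFunctor ⥤ᵇ BasedCategory.ofFunctor x.toFunctor where
  toFunctor := j.toFunctor
  w := rfl

/-- Descent over `C` gives descent over `B`. -/
theorem isEquivalence_restr_onBase (hT : IsFibGrpd T.p) (hCT : (Stk.restr j (total T)).IsEquivalence)
    [(Stk.restr j B).Faithful] [(Stk.restr j B).Full] : (Stk.restr (onBase j x) T).IsEquivalence := by
  haveI := hCT
  let R := Stk.restr (onBase j x) T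
  haveI : R.Faithful := ⟨fun {a a'} γ γ' h => by
    have e : downMap γ = downMap γ' := (Stk.restr j (total T)).map_injective (by
      apply BasedNatTrans.homCategory.ext
      ext w
      exact congrArg (fun t => t.toNatTrans.app w) h)
    apply BasedNatTrans.homCategory.ext
    ext z
    exact congrArg (fun t => t.toNatTrans.app z) e⟩
  haveI : R.Full := ⟨fun {a a'} γ => by
    let γ₀ : (Stk.restr j (total T)).obj (down a) ⟶ (Stk.restr j (total T)).obj (down a') :=
      { toNatTrans := γ.toNatTrans, isHomLift' := (downMap γ).isHomLift' }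
    obtain ⟨Γ, hΓ⟩ := (Stk.restr j (total T)).map_surjective γ₀
    have hcomp : ∀ w, Γ.toNatTrans.app (j.obj w) = γ.toNatTrans.app w :=
      fun w => congrArg (fun t => t.toNatTrans.app w) hΓ
    let i₀ : BasedFunctor.comp (down a) (proj T) ⟶ BasedFunctor.comp (down a') (proj T) :=
      BasedCategory.whiskerRight Γ (proj T)
    let i₁ : BasedFunctor.comp (down a) (proj T) ⟶ BasedFunctor.comp (down a') (proj T) :=
      { app := fun z => eqToHom ((a.w_obj z).trans (a'.w_obj z).symm)
        naturality := fun z z' m => by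
          have h₁ : T.p.map (a.map m) = eqToHom (a.w_obj z) ≫ x.map m ≫ eqToHom (a.w_obj z').symm := map_map a m
          have h₂ : T.p.map (a'.map m) = eqToHom (a'.w_obj z) ≫ x.map m ≫ eqToHom (a'.w_obj z').symm :=
            map_map a' m
          show T.p.map (a.map m) ≫ _ = _ ≫ T.p.map (a'.map m)
          rw [h₁, h₂]
          simp
        isHomLift' := fun z => IsHomLift.of_fac' B.p _ _
          ((BasedFunctor.comp (down a) (proj T)).w_obj z) ((BasedFunctor.comp (down a') (proj T)).w_obj z)
          (by rw [eqToHom_map]; simp) }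
    have he : i₀ = i₁ := (Stk.restr j B).map_injective (by
      apply BasedNatTrans.homCategory.ext
      ext w
      show T.p.map (Γ.toNatTrans.app (j.obj w)) = _
      rw [hcomp]
      exact map_app γ w)
    refine ⟨upMap Γ fun z => congrArg (fun t => t.toNatTrans.app z) he, ?_⟩
    apply BasedNatTrans.homCategory.ext
    ext w
    exact hcomp w⟩
  haveI : R.EssSurj := ⟨fun b => by
    let a₁ := (Stk.restr j (total T)).objPreimage (down b)
    let i := (Stk.restr j (total T)).objObjPreimageIso (down b)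
    let bx : BasedFunctor.comp (down b) (proj T) ≅ BasedFunctor.comp j x :=
      BasedNatIso.mkNatIso (NatIso.ofComponents (fun w => eqToIso (b.w_obj w)) (fun {w w'} m => by
        have h : T.p.map (b.map m) = eqToHom (b.w_obj w) ≫ x.map (j.map m) ≫ eqToHom (b.w_obj w').symm :=
          map_map b m
        show T.p.map (b.map m) ≫ eqToHom (b.w_obj w') = eqToHom (b.w_obj w) ≫ x.map (j.map m)
        rw [h]
        simp))
        (fun w => IsHomLift.of_fac' B.p _ _ ((BasedFunctor.comp (down b) (proj T)).w_obj w)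
          ((BasedFunctor.comp j x).w_obj w) (by simp [eqToHom_map]))
    let e₀ : (Stk.restr j B).obj (BasedFunctor.comp a₁ (proj T)) ≅ (Stk.restr j B).obj x :=
      (post A' (proj T)).mapIso i ≪≫ bx
    let e := (Stk.restr j B).preimageIso e₀
    obtain ⟨a, ρ, hρ⟩ := rectify hT a₁ e.symm
    let k : (Stk.restr j (total T)).obj (down a) ≅ (Stk.restr j (total T)).obj a₁ :=
      (Stk.restr j (total T)).mapIso ρ
    let k' : down ((Stk.restr (onBase j x) T).obj a) ≅ down b :=
      BasedNatIso.mkNatIso ((BasedNatTrans.forgetful A' (total T)).mapIso (k ≪≫ i))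
        (fun w => ((k ≪≫ i).hom).isHomLift' w)
    refine ⟨a, ⟨upIso k' fun w => ?_⟩⟩
    show T.p.map (ρ.hom.toNatTrans.app (j.obj w) ≫ i.hom.toNatTrans.app w) = _
    rw [Functor.map_comp, hρ]
    have he : (Stk.restr j B).map e.hom = e₀.hom := by
      rw [Functor.preimageIso_hom, Functor.map_preimage]
    have h₀ : e.hom.toNatTrans.app (j.obj w) = T.p.map (i.hom.toNatTrans.app w) ≫ eqToHom (b.w_obj w) :=
      congrArg (fun t => t.toNatTrans.app w) he
    let ez : T.p.obj (a₁.obj (j.obj w)) ≅ x.obj (j.obj w) :=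
      ((BasedNatTrans.forgetful _ _).mapIso e).app (j.obj w)
    have h₁ : e.symm.hom.toNatTrans.app (j.obj w) ≫ T.p.map (i.hom.toNatTrans.app w) ≫ eqToHom (b.w_obj w) = 𝟙 _ := by
      rw [← h₀]
      exact ez.inv_hom_id
    rw [← cancel_mono (eqToHom (b.w_obj w)), Category.assoc, Category.assoc]
    exact (congrArg (eqToHom (a.w_obj (j.obj w)) ≫ ·) h₁).trans (by simp; exact Category.comp_id _)⟩
  exact { }

/-- Descent over `B` gives descent over `C`. -/
theorem isEquivalence_restr_total (hT : IsFibGrpd T.p) (hB : IsFibGrpd B.p)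
    (hjB : (Stk.restr j B).IsEquivalence)
    (h : ∀ x : A ⥤ᵇ B, (Stk.restr (onBase j x) T).IsEquivalence) :
    (Stk.restr j (total T)).IsEquivalence := by
  haveI := hjB
  haveI := h
  haveI : (Stk.restr j (total T)).EssSurj := ⟨fun b => by
    let x := (Stk.restr j B).objPreimage (BasedFunctor.comp b (proj T))
    let ix := (Stk.restr j B).objObjPreimageIso (BasedFunctor.comp b (proj T))
    obtain ⟨b', ρ, -⟩ := rectify (x := BasedFunctor.comp j x) hT b ix
    let a := (Stk.restr (onBase j x) T).objPreimage b'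
    let i := (Stk.restr (onBase j x) T).objObjPreimageIso b'
    let k : (Stk.restr j (total T)).obj (down a) ≅ down b' :=
      BasedNatIso.mkNatIso ((BasedNatTrans.forgetful _ _).mapIso i) (fun w => (downMap i.hom).isHomLift' w)
    exact ⟨down a, ⟨k ≪≫ ρ⟩⟩⟩
  -- two functors over `C` and morphisms between them
  have key : ∀ (a a' : A ⥤ᵇ total T) (δ : BasedFunctor.comp a (proj T) ⟶ BasedFunctor.comp a' (proj T)),
      ∃ (a₀ a₁ : BasedCategory.ofFunctor (BasedFunctor.comp a (proj T)).toFunctor ⥤ᵇ T)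
        (ρ₀ : down a₀ ≅ a) (ρ₁ : down a₁ ≅ a'),
        (∀ z, T.p.map (ρ₀.hom.toNatTrans.app z) = eqToHom (a₀.w_obj z)) ∧
        (∀ z, T.p.map (ρ₁.hom.toNatTrans.app z) = eqToHom (a₁.w_obj z) ≫ δ.toNatTrans.app z) := by
    intro a a' δ
    obtain ⟨a₀, ρ₀, h₀⟩ := rectify (x := BasedFunctor.comp a (proj T)) hT a (Iso.refl _)
    haveI : ∀ z, IsIso (δ.toNatTrans.app z) := fun z => by
      haveI : IsIso (B.p.map (δ.toNatTrans.app z)) := by rw [map_app δ z]; infer_instance
      exact isIso_of_map hB _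
    haveI : IsIso δ.toNatTrans := NatIso.isIso_of_isIso_app _
    let δi : BasedFunctor.comp a (proj T) ≅ BasedFunctor.comp a' (proj T) :=
      BasedNatIso.mkNatIso (asIso δ.toNatTrans) (fun z => δ.isHomLift' z)
    obtain ⟨a₁, ρ₁, h₁⟩ := rectify (x := BasedFunctor.comp a (proj T)) hT a' δi
    exact ⟨a₀, a₁, ρ₀, ρ₁, fun z => (h₀ z).trans (Category.comp_id _), h₁⟩
  haveI : (Stk.restr j (total T)).Full := ⟨fun {a a'} γ => by
    obtain ⟨δ, hδ⟩ := (Stk.restr j B).map_surjective (X := BasedFunctor.comp a (proj T))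
      (Y := BasedFunctor.comp a' (proj T)) (BasedCategory.whiskerRight γ (proj T))
    obtain ⟨a₀, a₁, ρ₀, ρ₁, h₀, h₁⟩ := key a a' δ
    let γ₀ : (Stk.restr j (total T)).obj (down a₀) ⟶ (Stk.restr j (total T)).obj (down a₁) :=
      (Stk.restr j (total T)).map ρ₀.hom ≫ γ ≫ (Stk.restr j (total T)).map ρ₁.inv
    let γ₁ : down ((Stk.restr (onBase j (BasedFunctor.comp a (proj T))) T).obj a₀) ⟶
        down ((Stk.restr (onBase j (BasedFunctor.comp a (proj T))) T).obj a₁) :=
      { toNatTrans := γ₀.toNatTrans, isHomLift' := γ₀.isHomLift' }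
    have hγ₁ : ∀ w, T.p.map (γ₁.toNatTrans.app w) = eqToHom ((a₀.w_obj (j.obj w)).trans (a₁.w_obj (j.obj w)).symm) := by
      intro w
      let r₁ : a₁.obj (j.obj w) ≅ a'.obj (j.obj w) := ((BasedNatTrans.forgetful _ _).mapIso ρ₁).app (j.obj w)
      show T.p.map (ρ₀.hom.toNatTrans.app (j.obj w) ≫ γ.toNatTrans.app w ≫ r₁.inv) = _
      have hd : T.p.map (γ.toNatTrans.app w) = δ.toNatTrans.app (j.obj w) :=
        (congrArg (fun t => t.toNatTrans.app w) hδ).symm
      rw [← cancel_mono (T.p.map r₁.hom), ← Functor.map_comp, Category.assoc, Category.assoc, Iso.inv_hom_id,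
        Category.comp_id, Functor.map_comp, h₀, hd]
      show _ = eqToHom _ ≫ T.p.map (ρ₁.hom.toNatTrans.app (j.obj w))
      rw [h₁, eqToHom_trans_assoc]
    obtain ⟨Γ, hΓ⟩ := (Stk.restr (onBase j (BasedFunctor.comp a (proj T))) T).map_surjective (upMap γ₁ hγ₁)
    refine ⟨ρ₀.inv ≫ downMap Γ ≫ ρ₁.hom, ?_⟩
    apply BasedNatTrans.homCategory.ext
    ext w
    have e : Γ.toNatTrans.app (j.obj w) =
        ρ₀.hom.toNatTrans.app (j.obj w) ≫ γ.toNatTrans.app w ≫ ρ₁.inv.toNatTrans.app (j.obj w) :=
      congrArg (fun t => t.toNatTrans.app w) hΓ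
    let r₀ : a₀.obj (j.obj w) ≅ a.obj (j.obj w) := ((BasedNatTrans.forgetful _ _).mapIso ρ₀).app (j.obj w)
    let r₁ : a₁.obj (j.obj w) ≅ a'.obj (j.obj w) := ((BasedNatTrans.forgetful _ _).mapIso ρ₁).app (j.obj w)
    show r₀.inv ≫ Γ.toNatTrans.app (j.obj w) ≫ r₁.hom = _
    rw [e]
    show r₀.inv ≫ (r₀.hom ≫ γ.toNatTrans.app w ≫ r₁.inv) ≫ r₁.hom = _
    simp⟩
  haveI : (Stk.restr j (total T)).Faithful := ⟨fun {a a'} γ γ' h => by
    have hq : BasedCategory.whiskerRight γ (proj T) = BasedCategory.whiskerRight γ' (proj T) :=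
      (Stk.restr j B).map_injective (by
        apply BasedNatTrans.homCategory.ext
        ext w
        exact congrArg (fun t => T.p.map (t.toNatTrans.app w)) h)
    obtain ⟨a₀, a₁, ρ₀, ρ₁, h₀, h₁⟩ := key a a' (BasedCategory.whiskerRight γ (proj T))
    have hu : ∀ (g : a ⟶ a'), BasedCategory.whiskerRight g (proj T) = BasedCategory.whiskerRight γ (proj T) →
        ∀ z, T.p.map ((ρ₀.hom ≫ g ≫ ρ₁.inv).toNatTrans.app z) = eqToHom ((a₀.w_obj z).trans (a₁.w_obj z).symm) := by
      intro g hg z
      let r₁ : a₁.obj z ≅ a'.obj z := ((BasedNatTrans.forgetful _ _).mapIso ρ₁).app z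
      show T.p.map (ρ₀.hom.toNatTrans.app z ≫ g.toNatTrans.app z ≫ r₁.inv) = _
      have hgz : T.p.map (g.toNatTrans.app z) = T.p.map (γ.toNatTrans.app z) :=
        congrArg (fun t => t.toNatTrans.app z) hg
      rw [← cancel_mono (T.p.map r₁.hom), ← Functor.map_comp, Category.assoc, Category.assoc, Iso.inv_hom_id,
        Category.comp_id, Functor.map_comp, h₀, hgz]
      show _ = eqToHom _ ≫ T.p.map (ρ₁.hom.toNatTrans.app z)
      rw [h₁, eqToHom_trans_assoc]
      rfl
    have e : upMap _ (hu γ rfl) = upMap _ (hu γ' hq.symm) :=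
      (Stk.restr (onBase j (BasedFunctor.comp a (proj T))) T).map_injective (by
        apply BasedNatTrans.homCategory.ext
        ext w
        have hw : γ.toNatTrans.app (j.obj w) = γ'.toNatTrans.app (j.obj w) :=
          congrArg (fun t => t.toNatTrans.app w) h
        exact congrArg (fun k => ρ₀.hom.toNatTrans.app (j.obj w) ≫ k ≫ ρ₁.inv.toNatTrans.app (j.obj w)) hw)
    have e' : ρ₀.hom ≫ γ ≫ ρ₁.inv = ρ₀.hom ≫ γ' ≫ ρ₁.inv := by
      apply BasedNatTrans.homCategory.ext
      ext z
      exact congrArg (fun t => t.toNatTrans.app z) e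
    rwa [cancel_epi, cancel_mono] at e'⟩
  exact { }

end composite

end Groth.Agent.StkComp

end
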